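import Cfsg.Agent.Lib.Recog.JankoTwoUnique.Generators
import Cfsg.Agent.Lib.Recog.JankoTwoUnique.Points
import Cfsg.Agent.Lib.Recog.JankoTwo.Model
import Mathlib

/-!
Owner: helper29. A group of Hall–Janko type is isomorphic to the Hall–Janko group.
-/

set_option autoImplicit false
set_option linter.all false
set_option maxRecDepth 8000

namespace CfsgLib.Recog.JTwoU

open Subgroup Cfsg CfsgLib.Recog CfsgLib.Recog.HJType CfsgLib.Recog.SporBound

namespace Points

open CfsgLib.Recog.JankoTwo

/-- A point of a packed table, reduced. -/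
def tabFun (k : ℕ) (x : Fin 315) : Fin 315 :=
  ⟨pget (tabs.getD k 0) x.1 % 315, Nat.mod_lt _ (by norm_num)⟩

theorem tabFun_val {k : ℕ} (hk : k < 8) (x : Fin 315) : (tabFun k x).1 = pget (tabs.getD k 0) x.1 := by
  have := List.all_eq_true.1 tabs_invol k (List.mem_range.2 hk)
  rw [allPts_iff] at this
  have h := this x
  simp only [Bool.and_eq_true, decide_eq_true_eq] at h
  exact Nat.mod_eq_of_lt h.1

theorem tabFun_invol {k : ℕ} (hk : k < 8) (x : Fin 315) : tabFun k (tabFun k x) = x := by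
  have := List.all_eq_true.1 tabs_invol k (List.mem_range.2 hk)
  rw [allPts_iff] at this
  have h := this x
  simp only [Bool.and_eq_true, decide_eq_true_eq, beq_iff_eq] at h
  refine Fin.ext ?_
  rw [tabFun_val hk, tabFun_val hk]
  exact h.2

/-- The eight permutations. -/
def m (k : ℕ) : S315 :=
  if hk : k < 8 then ⟨tabFun k, tabFun k, tabFun_invol hk, tabFun_invol hk⟩ else 1

theorem m_sq (k : ℕ) : m k * m k = 1 := by
  unfold m
  split
  · next hk => exact Equiv.ext (tabFun_invol hk)
  · exact one_mul 1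

theorem m_big (k : ℕ) (hk : 8 ≤ k) : m k = 1 := dif_neg (by omega)

theorem ev_val : ∀ w : List ℕ, (∀ k ∈ w, k < 8) → ∀ x : Fin 315, (ev m w x).1 = trace w x.1
  | [], _, x => rfl
  | k :: w, hw, x => by
    have hk := hw k (by simp)
    rw [ev_cons]
    show (m k (ev m w x)).1 = pget (tabs.getD k 0) (trace w x.1)
    rw [← ev_val w (fun j hj => hw j (by simp [hj])) x, ← tabFun_val hk]
    unfold m
    rw [dif_pos hk]
    rfl

theorem ev_eq {w w' : List ℕ} (hw : ∀ k ∈ w, k < 8) (hw' : ∀ k ∈ w', k < 8)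
    (h : allPts (fun x => trace w x == trace w' x) = true) : ev m w = ev m w' := by
  refine Equiv.ext fun x => Fin.ext ?_
  rw [ev_val w hw, ev_val w' hw']
  exact beq_iff_eq.1 (allPts_iff.1 h x)

theorem rels_lt : ∀ w ∈ J2UC.cert.rels ++ J2UTop.cert.rels, ∀ k ∈ w, k < 8 := by decide +kernel

theorem m_rels : ∀ w ∈ J2UC.cert.rels ++ J2UTop.cert.rels, ev m w = 1 := by
  intro w hw
  refine (ev_eq (w' := []) (rels_lt w hw) (by simp) ?_).trans (ev_nil m)
  exact List.all_eq_true.1 rels_check w hw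

theorem m_low : ∀ k < 4, m k = aA (m 0) (m 1 * m 2) k := by
  intro k hk
  have hs : (m 1 * m 2)⁻¹ = m 2 * m 1 := by
    rw [mul_inv_rev, inv_eq_of_mul_eq_one_right (m_sq 1), inv_eq_of_mul_eq_one_right (m_sq 2)]
  set W := [[0], [0, 1, 2, 0, 2, 1, 0, 1, 2, 0, 2, 1, 0], [0, 1, 2, 0, 2, 1, 0, 1, 2, 0, 2, 1, 0, 1, 2],
    [0, 2, 1, 0, 1, 2, 0]].getD k [] with hW
  have h1 : ev m W = ev m [k] := by
    refine ev_eq ?_ (by simp; omega) ?_
    · rw [hW]; interval_cases k <;> decide
    · exact List.all_eq_true.1 low_check k (List.mem_range.2 hk)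
  have h2 : ev m [k] = m k := by simp [ev]
  rw [← h2, ← h1, hW]
  interval_cases k <;> simp [ev, aA, wC, wD, wW, hs, mul_assoc]

theorem gen_word (k : Fin 4) : ev m (genWords.getD k.1 []) = gen k := by
  refine Equiv.ext fun x => Fin.ext ?_
  have hlt : ∀ j ∈ genWords.getD k.1 [], j < 8 := by
    intro j hj
    have hmem : genWords.getD k.1 [] ∈ genWords := by
      rw [List.getD_eq_getElem _ _ (by have := k.2; simp [genWords])]
      exact List.getElem_mem _
    have := List.all_eq_true.1 words_lt _ hmem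
    exact of_decide_eq_true (List.all_eq_true.1 this j hj)
  rw [ev_val _ hlt, ← gen_rep k x]
  exact beq_iff_eq.1 (allPts_iff.1 (List.all_eq_true.1 gens_check k.1 (List.mem_range.2 k.2)) x)

end Points

/-- The subgroup generated by the eight letters. -/
def eight {M : Type*} [Group M] (a : ℕ → M) : Subgroup M := closure {g | ∃ k < 8, g = a k}

theorem card_eight {M : Type*} [Group M] {a : ℕ → M} (hC : CRels a)
    (hrel : ∀ w ∈ J2UTop.cert.rels, ev a w = 1) :
    Finite (eight a) ∧ Nat.card (eight a) ≤ 604800 := by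
  obtain ⟨hfin, h7⟩ := hC.card_le
  haveI := hfin
  have hsub : Cert.WordsIn a (seven a) J2UTop.cert.subs := by
    intro w hw
    refine ev_mem fun k hk => seven_mem a ?_
    exact (by decide +kernel : ∀ w ∈ J2UTop.cert.subs, ∀ k ∈ w, k < 7) w hw k hk
  obtain ⟨f8, c8⟩ := Cert.card_le hC.inv (hC.big _ (by decide)) J2UTop.ok (seven a) (eight a) hrel hsub
    (closure_mono (by
      rintro g ⟨k, hk, rfl⟩
      exact ⟨k, by simp only [J2UTop.cert]; interval_cases k <;> simp, rfl⟩))
  refine ⟨f8, c8.trans ?_⟩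
  calc J2UTop.cert.n * Nat.card (seven a) ≤ J2UTop.cert.n * 1920 := Nat.mul_le_mul_left _ h7
    _ = 604800 := by simp [J2UTop.cert]

section
variable {G : Type*} [Group G] [Finite G] {z : G} {Q : Subgroup G}

/-- A subgroup containing `C(z)` and a mover of `z` is the whole group. -/
theorem eq_top_of_le (h : Hyp z Q) {u : G} {Q' : Subgroup G} (F : Four z Q u Q') (H : Subgroup G)
    (hCH : centralizer ({z} : Set G) ≤ H) {g : G} (hgH : g ∈ H) (hg : g * z * g⁻¹ = u) : H = ⊤ := by
  classical
  haveI : Fact (Nat.Prime 2) := ⟨Nat.prime_two⟩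
  set z' : H := ⟨z, hCH (mem_cent.2 rfl)⟩ with hz'
  set Q₀ : Subgroup H := Q.subgroupOf H with hQ₀
  have hQH : Q ≤ H := h.loc.le.trans hCH
  have hmem : ∀ x : H, x ∈ centralizer ({z'} : Set H) ↔ (x : G) ∈ centralizer ({z} : Set G) := by
    intro x
    rw [mem_cent, mem_cent]
    exact ⟨fun e => congrArg Subtype.val e, fun e => Subtype.ext e⟩
  have hyp : Hyp z' Q₀ := by
    refine ⟨⟨?_, ?_, ?_, ?_, ?_, ?_, ?_⟩, ?_, ?_⟩
    · rw [← orderOf_injective H.subtype Subtype.val_injective]; exact h.loc.hz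
    · exact fun x hx => (hmem x).2 (h.loc.le hx)
    · exact fun c hc q hq => h.loc.conj_mem c ((hmem c).1 hc) q hq
    · exact CfsgLib.Pairs.Cubic.extraspecial_congr h.loc.extra (subgroupOfEquivOfLe hQH).symm
    · rw [Nat.card_congr (subgroupOfEquivOfLe hQH).toEquiv, h.loc.card]
    · exact fun x hx hq => h.loc.self x ((hmem x).1 hx) fun q hqQ => congrArg Subtype.val (hq ⟨q, hQH hqQ⟩ hqQ)
    · obtain ⟨π, hπ, hker⟩ := h.loc.quot
      let i : ↥(centralizer ({z'} : Set H)) →* ↥(centralizer ({z} : Set G)) :=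
        { toFun := fun x => ⟨((x : H) : G), (hmem x).1 x.2⟩
          map_one' := rfl
          map_mul' := fun _ _ => rfl }
      refine ⟨π.comp i, fun a => ?_, fun c => hker (i c)⟩
      obtain ⟨c, rfl⟩ := hπ a
      exact ⟨⟨⟨c, hCH c.2⟩, (hmem _).2 c.2⟩, rfl⟩
    · refine ⟨⟨g, hgH⟩, ?_, fun e => F.ne ?_⟩
      · show g * z * g⁻¹ ∈ Q
        rw [hg]; exact F.mem
      · rw [← hg]; exact congrArg Subtype.val e
    · obtain ⟨v, hv, hvC, hvQ⟩ := h.exists_outer
      have hv1 : v ≠ 1 := fun e => hvQ (e ▸ one_mem _)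
      refine ⟨z', ⟨v, hCH hvC⟩, ?_, ?_, fun hc => h.outer_not_conj hv hvC hvQ ?_⟩
      · rw [← orderOf_injective H.subtype Subtype.val_injective]; exact h.loc.hz
      · rw [← orderOf_injective H.subtype Subtype.val_injective]; exact ord_two hv hv1
      · obtain ⟨k, hk⟩ := isConj_iff.1 hc
        exact isConj_iff.2 ⟨k, congrArg Subtype.val hk⟩
  exact eq_top_of_card_eq H (by rw [hyp.card_group, h.card_group])

/-- The uniqueness theorem. -/
theorem isoJ2 (h : Hyp z Q) : Cfsg.Spor.IsoJ2 G := by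
  classical
  obtain ⟨u, Q', v, σ, B⟩ := exists_base h
  obtain ⟨p, hpQ, hpz, hne, hp2, hrels⟩ := exists_gens h B
  set a := lett v σ u z p with ha
  have htop : eight a = ⊤ := by
    have hmem : ∀ k, k < 8 → a k ∈ eight a := fun k hk => subset_closure ⟨k, hk, rfl⟩
    have hC : centralizer ({z} : Set G) ≤ eight a := by
      rw [← B.seven_eq, seven, closure_le]
      rintro g ⟨k, hk, rfl⟩
      rw [← lett_p v σ u z p hk]
      exact hmem k (by omega)
    obtain ⟨hwQ, hwσ, hwu⟩ := B.u_move
    set x := wC v σ * u * wC v σ with hx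
    have hx2 : x * x = 1 := conj_invol B.c2 B.four.uu
    have hxi : x⁻¹ = x := inv_eq_of_mul_eq_one_right hx2
    have hpi : p⁻¹ = p := inv_eq_of_mul_eq_one_right hp2
    refine eq_top_of_le h B.four (eight a) hC (g := p * x * (p * x)) ?_ ?_
    · have hxH : x ∈ eight a := hC (B.four.hz.loc.le hwQ)
      exact mul_mem (mul_mem (hmem 7 (by norm_num)) hxH) (mul_mem (hmem 7 (by norm_num)) hxH)
    · have hxz : x * z * x = z := by rw [mem_cent.1 (B.four.hz.loc.le hwQ), mul_assoc, hx2, mul_one]
      have hxu : x * u * x = u * z := hwu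
      have hpu : p * u = u * p := mem_cent.1 (B.four.hu.loc.le hpQ)
      have pup : p * u * p = u := by rw [hpu, mul_assoc, hp2, mul_one]
      calc p * x * (p * x) * z * (p * x * (p * x))⁻¹ = p * x * (p * (x * z * x) * p) * (x * p) := by
            rw [mul_inv_rev, mul_inv_rev, hxi, hpi]; group
        _ = p * x * (z * u) * (x * p) := by rw [hxz, hpz]
        _ = p * ((x * z * x) * (x * u * x)) * p := by
            rw [show x * z * x * (x * u * x) = x * z * (x * x) * u * x by group, hx2]; group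
        _ = p * (z * (u * z)) * p := by rw [hxz, hxu]
        _ = p * u * p := by rw [← B.four.comm, ← mul_assoc z z u, B.four.hz.loc.zz, one_mul]
        _ = u := pup
  set b : ℕ → G × JankoTwo.S315 := fun k => (a k, Points.m k) with hb
  have hinv : ∀ k, a k * a k = 1 := B.letters_inv hp2
  have hR : CRels b := by
    refine ⟨fun k => Prod.ext (hinv k) (Points.m_sq k), fun k hk => Prod.ext ?_ (Points.m_big k hk), fun k hk => ?_,
      fun w hw => ?_⟩
    · obtain ⟨j, rfl⟩ : ∃ j, k = j + 8 := ⟨k - 8, by omega⟩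
      rfl
    · refine Prod.ext ?_ ?_
      · refine (B.low p k hk).trans ?_
        exact (map_aA (MonoidHom.fst G JankoTwo.S315) (b 0) (b 1 * b 2) k).symm
      · refine (Points.m_low k hk).trans ?_
        exact (map_aA (MonoidHom.snd G JankoTwo.S315) (b 0) (b 1 * b 2) k).symm
    · rw [hb, ev_pair, B.relsC p w hw, Points.m_rels w (List.mem_append_left _ hw)]; rfl
  have hrel : ∀ w ∈ J2UTop.cert.rels, ev b w = 1 := by
    intro w hw
    have := List.all_eq_true.1 top_rels w hw
    simp only [List.contains_iff_mem] at this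
    rw [hb, ev_pair, hrels w this, Points.m_rels w (List.mem_append_right _ hw)]
    rfl
  obtain ⟨hfin, hle⟩ := card_eight hR hrel
  haveI := hfin
  set D := eight b with hD
  have hbD : ∀ w : List ℕ, (∀ k ∈ w, k < 8) → ev b w ∈ D := fun w hw =>
    ev_mem fun k hk => subset_closure ⟨k, hw k hk, rfl⟩
  have hmap1 : D.map (MonoidHom.fst G JankoTwo.S315) = ⊤ := by
    rw [← htop, hD, eight, eight, MonoidHom.map_closure]
    congr 1
    ext g
    constructor
    · rintro ⟨_, ⟨k, hk, rfl⟩, rfl⟩; exact ⟨k, hk, rfl⟩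
    · rintro ⟨k, hk, rfl⟩; exact ⟨b k, ⟨k, hk, rfl⟩, rfl⟩
  set p1 := (MonoidHom.fst G JankoTwo.S315).comp D.subtype with hp1
  set p2 := (MonoidHom.snd G JankoTwo.S315).comp D.subtype with hp2'
  have hr1 : p1.range = ⊤ := by rw [hp1, MonoidHom.range_comp, range_subtype, hmap1]
  have hcG := h.card_group
  have hi1 : Function.Injective p1 := by
    haveI : Fintype D := Fintype.ofFinite _
    haveI : Fintype G := Fintype.ofFinite _
    refine ((Fintype.bijective_iff_surjective_and_card p1).2 ⟨MonoidHom.range_eq_top.1 hr1, ?_⟩).1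
    refine le_antisymm ?_ (Fintype.card_le_of_surjective _ (MonoidHom.range_eq_top.1 hr1))
    rw [← Nat.card_eq_fintype_card, ← Nat.card_eq_fintype_card, hcG]
    exact hle
  have hP : JankoTwo.P ≤ p2.range := by
    rw [JankoTwo.P, closure_le]
    rintro _ ⟨k, rfl⟩
    have hlt : ∀ j ∈ Points.genWords.getD k.1 [], j < 8 := by
      fin_cases k <;> decide
    refine ⟨⟨ev b (Points.genWords.getD k.1 []), hbD _ hlt⟩, ?_⟩
    show (ev b (Points.genWords.getD k.1 [])).2 = JankoTwo.gen k
    rw [hb, ev_pair, Points.gen_word]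
  have hc2 : Nat.card p2.range ≤ 604800 :=
    (Nat.card_le_card_of_surjective p2.rangeRestrict p2.rangeRestrict_surjective).trans hle
  have heq : p2.range = JankoTwo.P :=
    (Subgroup.eq_of_le_of_card_ge hP (by rw [JankoTwo.card_P]; exact hc2)).symm
  have hi2 : Function.Injective p2.rangeRestrict := by
    haveI : Fintype D := Fintype.ofFinite _
    haveI : Fintype p2.range := Fintype.ofFinite _
    refine ((Fintype.bijective_iff_surjective_and_card _).2 ⟨p2.rangeRestrict_surjective, ?_⟩).1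
    refine le_antisymm ?_ (Fintype.card_le_of_surjective _ p2.rangeRestrict_surjective)
    rw [← Nat.card_eq_fintype_card, ← Nat.card_eq_fintype_card, heq, JankoTwo.card_P]
    exact hle
  exact ⟨(MulEquiv.ofBijective p1 ⟨hi1, MonoidHom.range_eq_top.1 hr1⟩).symm.trans
    ((MulEquiv.ofBijective p2.rangeRestrict ⟨hi2, p2.rangeRestrict_surjective⟩).trans
      ((MulEquiv.subgroupCongr heq).trans JankoTwo.equivP.symm))⟩

end

end CfsgLib.Recog.JTwoU
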