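import Cfsg.Agent.Lib.Recog.JankoTwoType.Classes
import Cfsg.Agent.Lib.ThreeTrans.WidthOneThm
import Mathlib

/-!
Owner: helper29. A simple group with two classes of involutions has the hypothesis block of the
Hall–Janko type.
-/

set_option autoImplicit false
set_option linter.all false

namespace CfsgLib.Recog.JTwoU

open Subgroup Cfsg CfsgLib.Recog CfsgLib.Recog.HJType

variable {G : Type*} [Group G] [Finite G]

theorem exists_conj_commuting [IsSimpleGroup G] {t : G} {Q : Subgroup G} (h : Local t Q) :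
    ∃ g : G, g * t * g⁻¹ ∈ centralizer ({t} : Set G) ∧ g * t * g⁻¹ ≠ t := by
  classical
  haveI : Fact (Nat.Prime 2) := ⟨Nat.prime_two⟩
  set C := centralizer ({t} : Set G) with hC
  have hQ2 : IsPGroup 2 Q := h.extra.1.1
  obtain ⟨P, hQP⟩ := hQ2.exists_le_sylow
  have hPC : (P : Subgroup G) ≤ C := by
    haveI : Nontrivial (P : Subgroup G) :=
      ⟨⟨⟨t, hQP h.z_mem⟩, 1, fun e => h.z_ne (congrArg Subtype.val e)⟩⟩
    haveI := P.isPGroup'.center_nontrivial
    obtain ⟨c, hc⟩ := exists_ne (1 : center (P : Subgroup G))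
    have hcP : ((c : (P : Subgroup G)) : G) ∈ (P : Subgroup G) := (c : (P : Subgroup G)).2
    have hcomm : ∀ x ∈ (P : Subgroup G), x * ((c : (P : Subgroup G)) : G) = ((c : (P : Subgroup G)) : G) * x :=
      fun x hx => congrArg Subtype.val (mem_center_iff.1 c.2 ⟨x, hx⟩)
    have hcC : ((c : (P : Subgroup G)) : G) ∈ C := mem_cent.2 (hcomm t (hQP h.z_mem)).symm
    rcases h.self_cases hcC (fun q hq => (hcomm q (hQP hq)).symm) with e | e
    · exact absurd (Subtype.ext (Subtype.ext e)) hc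
    · exact fun x hx => mem_cent.2 (e ▸ hcomm x hx)
  by_contra hcon
  push Not at hcon
  obtain ⟨N, hN, hodd, hNc⟩ := CfsgLib.ThreeTrans.isolatedInvolution G P t h.hz (hQP h.z_mem)
    fun g hg => hcon g (hPC hg)
  rcases hN.eq_bot_or_eq_top with e | e
  · have hcen : ∀ g : G, g ∈ C := by
      intro g
      refine mem_cent.2 ?_
      have := hNc g
      rw [e, mem_bot, mul_inv_eq_one, mul_inv_eq_iff_eq_mul] at this
      exact this.symm
    have htc : t ∈ center G := mem_center_iff.2 fun g => mem_cent.1 (hcen g)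
    rcases (inferInstance : (center G).Normal).eq_bot_or_eq_top with e' | e'
    · exact h.z_ne (mem_bot.1 (e' ▸ htc))
    · obtain ⟨π, hπ, -⟩ := h.quot
      obtain ⟨a, b, hab⟩ : ∃ a b : alternatingGroup (Fin 5), a * b ≠ b * a := by
        decide +kernel
      obtain ⟨x, rfl⟩ := hπ a
      obtain ⟨y, rfl⟩ := hπ b
      refine hab ?_
      rw [← map_mul, ← map_mul]
      exact congrArg π (Subtype.ext (mem_center_iff.1 (e' ▸ mem_top (y : G)) (x : G)))
  · have h2 : 2 ∣ Nat.card N := by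
      rw [e, card_top]
      exact h.hz ▸ orderOf_dvd_natCard t
    exact (Nat.not_even_iff_odd.2 hodd) (even_iff_two_dvd.2 h2)

theorem hyp_of_two_classes [IsSimpleGroup G] (t : G) (ht : orderOf t = 2)
    (Q : Subgroup (Subgroup.centralizer ({t} : Set G))) [Q.Normal] (hQ : Cfsg.IsExtraspecial 2 Q)
    (hcard : Nat.card Q = 32)
    (h2c : Subgroup.centralizer (Q : Set (Subgroup.centralizer ({t} : Set G))) ≤ Q)
    (e : (Subgroup.centralizer ({t} : Set G)) ⧸ Q ≃* alternatingGroup (Fin 5))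
    (htwo : ∃ x y : G, orderOf x = 2 ∧ orderOf y = 2 ∧ ¬ IsConj x y ∧
      ∀ z : G, orderOf z = 2 → IsConj z x ∨ IsConj z y) :
    ∃ Q₀ : Subgroup G, Hyp t Q₀ := by
  classical
  have hmem : ∀ c : (Subgroup.centralizer ({t} : Set G)),
      (c : G) ∈ Q.map (Subgroup.centralizer ({t} : Set G)).subtype ↔ c ∈ Q := fun c =>
    mem_map_iff_mem (Subgroup.centralizer ({t} : Set G)).subtype_injective
  have h : Local t (Q.map (Subgroup.centralizer ({t} : Set G)).subtype) := by
    refine ⟨ht, map_subtype_le _, ?_, ?_, ?_, ?_, (e.toMonoidHom).comp (QuotientGroup.mk' Q), ?_, ?_⟩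
    · rintro c hc _ ⟨q, hq, rfl⟩
      exact ⟨⟨c, hc⟩ * q * (⟨c, hc⟩ : (Subgroup.centralizer ({t} : Set G)))⁻¹,
        (inferInstance : Q.Normal).conj_mem q hq _, rfl⟩
    · exact CfsgLib.Pairs.Cubic.extraspecial_congr hQ
        (Q.equivMapOfInjective _ (Subgroup.centralizer ({t} : Set G)).subtype_injective)
    · rw [card_map_of_injective (Subgroup.centralizer ({t} : Set G)).subtype_injective, hcard]
    · intro x hx hq
      exact (hmem ⟨x, hx⟩).2 (h2c (mem_centralizer_iff.2 fun q hqQ => Subtype.ext (hq q ((hmem q).2 hqQ)).symm))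
    · exact e.surjective.comp (QuotientGroup.mk'_surjective Q)
    · intro c
      rw [hmem, ← QuotientGroup.eq_one_iff c]
      exact e.map_eq_one_iff
  obtain ⟨x, y, hx, hy, hxy, hall⟩ := htwo
  refine ⟨_, h, ?_, ⟨x, y, hx, hy, hxy⟩⟩
  set Q₀ := Q.map (Subgroup.centralizer ({t} : Set G)).subtype with hQ₀
  by_contra hcon
  push Not at hcon
  obtain ⟨g, hgC, hgt⟩ := exists_conj_commuting h
  set v := g * t * g⁻¹ with hv
  have hv2 : v * v = 1 := invol_conj g h.zz
  have hvQ : v ∉ Q₀ := fun hq => hgt (hcon g hq)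
  have R := h.conj_local g
  rw [← hv] at R
  set Qv := Q₀.map (MulAut.conj g).toMonoidHom with hQv
  have hRcon : ∀ k : G, k * v * k⁻¹ ∈ Qv → k * v * k⁻¹ = v := by
    rintro k ⟨q, hq, hqe⟩
    have e1 : q = (g⁻¹ * k * g) * t * (g⁻¹ * k * g)⁻¹ := by
      have : g * q * g⁻¹ = k * v * k⁻¹ := hqe
      calc q = g⁻¹ * (g * q * g⁻¹) * g := by group
        _ = _ := by rw [this, hv]; group
    have e2 := hcon (g⁻¹ * k * g) (e1 ▸ hq)
    calc k * v * k⁻¹ = g * ((g⁻¹ * k * g) * t * (g⁻¹ * k * g)⁻¹) * g⁻¹ := by rw [hv]; group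
      _ = v := by rw [e2]
  have htv : t ∈ centralizer ({v} : Set G) := mem_cent.2 (mem_cent.1 hgC).symm
  have htR : t ∉ Qv := by
    intro hq
    have e1 : g⁻¹ * v * g⁻¹⁻¹ = t := by rw [hv]; group
    exact hgt ((hRcon g⁻¹ (e1.symm ▸ hq)).symm.trans e1)
  obtain ⟨r, hr, hr1, hrv⟩ : ∃ r ∈ Qv ⊓ centralizer ({t} : Set G), r ≠ 1 ∧ r ≠ v := by
    by_contra hcon'
    push Not at hcon'
    have hsub : ((Qv ⊓ centralizer ({t} : Set G) : Subgroup G) : Set G) ⊆ ({1, v} : Set G) := by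
      intro r hr
      by_cases h1 : r = 1
      · exact Or.inl h1
      · exact Or.inr (hcon' r hr h1)
    have := (Set.ncard_le_ncard hsub (Set.toFinite _)).trans (Set.ncard_insert_le _ _)
    rw [Set.ncard_singleton, ← Nat.card_coe_set_eq] at this
    have h4 : Nat.card ↥(Qv ⊓ centralizer ({t} : Set G) : Subgroup G) = 4 := R.card_inf_outer h.zz htv htR
    change Nat.card ↥(Qv ⊓ centralizer ({t} : Set G) : Subgroup G) ≤ 2 at this
    omega
  have hvR : v ∈ Qv := R.z_mem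
  have hinner : ∀ s ∈ Qv ⊓ centralizer ({t} : Set G), s ≠ 1 → s ≠ v → s ∈ Q₀ := by
    intro s hs hs1 hsv
    by_contra hsQ
    have hs2 := R.centralizer_inf_sq h.zz htv htR hs.1 hs.2
    obtain ⟨c, -, hc⟩ := h.outer_conj hv2 hgC hvQ hs2 hs.2 hsQ
    exact hsv (hc ▸ hRcon c (hc.symm ▸ hs.1))
  have hvr : v * r ∈ Qv ⊓ centralizer ({t} : Set G) :=
    ⟨mul_mem hvR hr.1, mul_mem (mem_cent.2 (mem_cent.1 hgC)) hr.2⟩
  have h1 : v * r ≠ 1 := fun e => hrv (by
    rw [← inv_eq_of_mul_eq_one_right e]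
    exact inv_eq_of_mul_eq_one_right hv2)
  have h2 : v * r ≠ v := fun e => hr1 (mul_eq_left.1 e)
  have := mul_mem (hinner _ hvr h1 h2) (Subgroup.inv_mem _ (hinner r hr hr1 hrv))
  rw [mul_inv_cancel_right] at this
  exact hvQ this

end CfsgLib.Recog.JTwoU
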