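import Cfsg.Agent.Lib.Recog.JankoTwoUnique.Hom
import Cfsg.Agent.Lib.Recog.SporBound.J2UC.Valid
import Mathlib

/-!
Owner: helper29. Letters satisfying the relations of the centralizer generate at most 1920 elements.
-/

set_option autoImplicit false
set_option linter.all false
set_option maxRecDepth 8000

namespace CfsgLib.Recog.JTwoU

open Subgroup CfsgLib.Recog.SporBound

variable {M : Type*} [Group M]

theorem ev_nil (a : ℕ → M) : ev a [] = 1 := rfl

theorem ev_cons (a : ℕ → M) (k : ℕ) (w : List ℕ) : ev a (k :: w) = a k * ev a w := by simp [ev]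

theorem ev_append (a : ℕ → M) (w w' : List ℕ) : ev a (w ++ w') = ev a w * ev a w' := by simp [ev]

theorem ev_congr {a b : ℕ → M} {w : List ℕ} (h : ∀ k ∈ w, a k = b k) : ev a w = ev b w := by
  rw [ev, ev, List.map_congr_left h]

theorem ev_mem {H : Subgroup M} {a : ℕ → M} {w : List ℕ} (h : ∀ k ∈ w, a k ∈ H) : ev a w ∈ H :=
  list_prod_mem fun g hg => by
    obtain ⟨k, hk, rfl⟩ := List.mem_map.1 hg
    exact h k hk

/-- The subgroup generated by the first seven letters. -/
def seven (a : ℕ → M) : Subgroup M := closure {g | ∃ k < 7, g = a k}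

theorem seven_mem (a : ℕ → M) {k : ℕ} (hk : k < 7) : a k ∈ seven a := subset_closure ⟨k, hk, rfl⟩

/-- Letters satisfying the relations of the centralizer. -/
structure CRels (a : ℕ → M) : Prop where
  inv : ∀ k, a k * a k = 1
  big : ∀ k, 8 ≤ k → a k = 1
  low : ∀ k, k < 4 → a k = aA (a 0) (a 1 * a 2) k
  rels : ∀ w ∈ J2UC.cert.rels, ev a w = 1

theorem CRels.card_le {a : ℕ → M} (h : CRels a) : Finite (seven a) ∧ Nat.card (seven a) ≤ 1920 := by
  set v := a 0 with hv
  set s := a 1 * a 2 with hs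
  have hs3 : s ^ 3 = 1 := by
    have := h.rels [1, 2, 1, 2, 1, 2] (by simp [J2UC.cert])
    simpa [ev, hs, pow_three, mul_assoc] using this
  have h5 : (v * s) ^ 5 = 1 := by
    have := h.rels [0, 1, 2, 0, 1, 2, 0, 1, 2, 0, 1, 2, 0, 1, 2] (by simp [J2UC.cert])
    simpa [ev, hs, hv, pow_succ, mul_assoc] using this
  obtain ⟨hfin, hA⟩ := card_tri (h.inv 0) hs3 h5
  set A := closure {g | ∃ x ∈ ([0, 1, 2] : List ℕ), g = tri v s x} with hAdef
  have hvA : v ∈ A := subset_closure ⟨0, by simp, rfl⟩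
  have hsA : s ∈ A := by
    rw [s_word (h.inv 0) hs3 h5]
    refine mul_mem (mul_mem (mul_mem (mul_mem hvA ?_) ?_) hvA) ?_
    · exact subset_closure ⟨1, by simp, rfl⟩
    · exact subset_closure ⟨2, by simp, rfl⟩
    · exact subset_closure ⟨1, by simp, rfl⟩
  have hcA : wC v s ∈ A := mul_mem (mul_mem (mul_mem (mul_mem (mul_mem (mul_mem (mul_mem (mul_mem hvA hsA) hvA)
    (inv_mem hsA)) hvA) hsA) hvA) (inv_mem hsA)) hvA
  have hlow : ∀ k < 4, a k ∈ A := by
    intro k hk
    rw [h.low k hk]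
    interval_cases k
    · exact hvA
    · exact hcA
    · exact mul_mem hcA hsA
    · exact mul_mem (mul_mem (mul_mem (mul_mem hvA (inv_mem hsA)) hvA) hsA) hvA
  haveI := hfin
  have hsub : Cert.WordsIn a A J2UC.cert.subs := by
    intro w hw
    simp only [J2UC.cert, List.mem_cons, List.not_mem_nil, or_false] at hw
    rcases hw with rfl | rfl | rfl | rfl <;> simp [hlow]
  obtain ⟨f7, c7⟩ := Cert.card_le h.inv (h.big _ (by decide)) J2UC.ok A (seven a) h.rels hsub
    (closure_mono (by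
      rintro g ⟨k, hk, rfl⟩
      exact ⟨k, by simp only [J2UC.cert]; interval_cases k <;> simp, rfl⟩))
  refine ⟨f7, c7.trans ?_⟩
  calc J2UC.cert.n * Nat.card A ≤ J2UC.cert.n * 60 := Nat.mul_le_mul_left _ hA
    _ = 1920 := by simp [J2UC.cert]

end CfsgLib.Recog.JTwoU
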