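import Mathlib.GroupTheory.SpecificGroups.Alternating
import Mathlib.Tactic.Group

/-!
Owner: helper29. Generators of the Hall–Janko group: words, and the facts about the alternating
group of degree five used to derive their relations.
-/

set_option autoImplicit false
set_option Elab.async false

namespace CfsgLib.Recog.JTwoU

local notation "A5" => alternatingGroup (Fin 5)

section
variable {M : Type*} [Group M]

/-- The second letter. -/
def wC (v s : M) : M := v * s * v * s⁻¹ * v * s * v * s⁻¹ * v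
/-- The third letter. -/
def wD (v s : M) : M := wC v s * s
/-- The fourth letter. -/
def wW (v s : M) : M := v * s⁻¹ * v * s * v

/-- Evaluation of a word. -/
def ev (a : ℕ → M) (w : List ℕ) : M := (w.map a).prod

/-- The letters of the complement. -/
def aA (v s : M) : ℕ → M
  | 0 => v
  | 1 => wC v s
  | 2 => wD v s
  | 3 => wW v s
  | _ => 1

theorem map_wC {N : Type*} [Group N] (f : M →* N) (v s : M) : f (wC v s) = wC (f v) (f s) := by
  simp [wC]

theorem map_wW {N : Type*} [Group N] (f : M →* N) (v s : M) : f (wW v s) = wW (f v) (f s) := by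
  simp [wW]

theorem map_aA {N : Type*} [Group N] (f : M →* N) (v s : M) (k : ℕ) : f (aA v s k) = aA (f v) (f s) k := by
  rcases k with _ | _ | _ | _ | k <;> simp [aA, wD, map_wC, map_wW]

theorem map_ev {N : Type*} [Group N] (f : M →* N) (a : ℕ → M) (w : List ℕ) :
    f (ev a w) = ev (fun k => f (a k)) w := by
  rw [ev, ev, map_list_prod, List.map_map]
  rfl

end

/-- Relations holding in the complement. -/
def relsA : List (List ℕ) :=
  [[0, 0], [1, 1], [2, 2], [3, 3], [1, 2, 1, 2, 1, 2], [0, 1, 2, 0, 1, 2, 0, 1, 2, 0, 1, 2, 0, 1, 2], [1, 0, 1, 2, 0, 2, 1, 0, 1, 2, 0, 2, 1, 0], [3, 0, 2, 1, 0, 1, 2, 0], [0, 2, 0, 2], [0, 3, 2, 1, 2, 3],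
    [1, 3, 1, 2, 1, 3, 1, 2, 1, 3, 1, 2, 1, 3, 1, 2, 1, 3, 1, 2], [3, 1, 2, 3, 2, 1, 3, 1, 2, 3, 2, 1]]

/-- A standard involution. -/
def stdV : A5 := ⟨Equiv.swap 0 1 * Equiv.swap 2 3, Equiv.Perm.mem_alternatingGroup.2 (by decide)⟩

/-- A standard element of order three. -/
def stdS : A5 := ⟨Equiv.swap 0 2 * Equiv.swap 2 4, Equiv.Perm.mem_alternatingGroup.2 (by decide)⟩

theorem std_rels : stdV * stdV = 1 ∧ stdS ^ 3 = 1 ∧ (stdV * stdS) ^ 5 = 1 ∧ stdV * stdS ≠ 1 ∧ stdV ≠ 1 ∧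
    stdS ≠ 1 := by
  decide +kernel

theorem std_relsA : ∀ w ∈ relsA, ev (aA stdV stdS) w = 1 := by
  decide +kernel

theorem std_ids : wC stdV stdS * wD stdV stdS = stdS ∧
    wW stdV stdS * (stdS * wW stdV stdS * stdS⁻¹) = stdS⁻¹ * wW stdV stdS * stdS ∧
    stdV * wD stdV stdS ≠ 1 ∧
    wC stdV stdS * wW stdV stdS * wC stdV stdS * wD stdV stdS ≠ 1 := by
  decide +kernel

set_option maxRecDepth 8000 in
set_option maxHeartbeats 1000000 in
set_option synthInstance.maxSize 5000 in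
set_option synthInstance.maxHeartbeats 200000 in
theorem five_choice : ∀ s t : A5, s ^ 3 = 1 → s ≠ 1 → t * t = 1 → t ≠ 1 →
    t * (s * t * s⁻¹) = s * t * s⁻¹ * t →
    ∃ v : A5, v * v = 1 ∧ v ≠ 1 ∧ (v * s) ^ 5 = 1 ∧ v * s ≠ 1 ∧
      (wW v s = t ∨ wW v s = s * t * s⁻¹ ∨ wW v s = s⁻¹ * t * s) := by
  decide +kernel

end CfsgLib.Recog.JTwoU
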