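import Mathlib.GroupTheory.Perm.Basic
import Mathlib.Data.Fintype.Perm
import Cfsg.Agent.Lib.Recog.JankoTwoUnique.AltFive
import Cfsg.Agent.Lib.Recog.SporBound.J2UC.Data

/-!
Owner: helper29. The centralizer of an involution of the Hall–Janko group on 32 points: generated data
and finite checks.
-/

set_option autoImplicit false
set_option Elab.async false
set_option maxRecDepth 20000

namespace CfsgLib.Recog.JTwoU.Model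

def tab0 : Fin 32 → Fin 32 := fun i => [0, 4, 2, 9, 1, 12, 14, 15, 19, 3, 24, 18, 5, 28, 6, 7, 25, 29, 11, 8, 22, 23, 20, 21, 10, 16, 30, 27, 13, 17, 26, 31].getD i.1 0

theorem tab0_inv : ∀ i, tab0 (tab0 i) = i := by decide +kernel

def tab1 : Fin 32 → Fin 32 := fun i => [0, 5, 2, 10, 4, 1, 16, 18, 20, 19, 3, 26, 27, 22, 14, 29, 6, 23, 7, 9, 8, 30, 13, 17, 28, 31, 11, 12, 24, 15, 21, 25].getD i.1 0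

theorem tab1_inv : ∀ i, tab1 (tab1 i) = i := by decide +kernel

def tab2 : Fin 32 → Fin 32 := fun i => [0, 5, 2, 11, 12, 1, 16, 17, 21, 18, 22, 3, 4, 26, 25, 29, 6, 7, 9, 23, 24, 8, 10, 19, 20, 14, 13, 27, 30, 15, 28, 31].getD i.1 0

theorem tab2_inv : ∀ i, tab2 (tab2 i) = i := by decide +kernel

def tab3 : Fin 32 → Fin 32 := fun i => [0, 1, 2, 7, 5, 4, 6, 3, 17, 19, 11, 10, 27, 15, 16, 13, 14, 8, 26, 9, 21, 20, 24, 30, 22, 31, 18, 12, 29, 28, 23, 25].getD i.1 0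

theorem tab3_inv : ∀ i, tab3 (tab3 i) = i := by decide +kernel

def tab4 : Fin 32 → Fin 32 := fun i => [1, 0, 6, 7, 13, 15, 2, 3, 17, 22, 12, 27, 10, 4, 28, 5, 29, 8, 30, 24, 25, 31, 9, 26, 19, 20, 23, 11, 14, 16, 18, 21].getD i.1 0

theorem tab4_inv : ∀ i, tab4 (tab4 i) = i := by decide +kernel

def tab5 : Fin 32 → Fin 32 := fun i => [2, 6, 0, 8, 14, 16, 1, 17, 3, 19, 20, 21, 25, 28, 4, 29, 5, 7, 23, 9, 10, 11, 24, 18, 22, 12, 30, 31, 13, 15, 26, 27].getD i.1 0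

theorem tab5_inv : ∀ i, tab5 (tab5 i) = i := by decide +kernel

def tab6 : Fin 32 → Fin 32 := fun i => [3, 7, 8, 0, 13, 5, 17, 1, 2, 23, 25, 21, 20, 4, 28, 15, 16, 6, 19, 18, 12, 11, 26, 9, 30, 10, 22, 31, 14, 29, 24, 27].getD i.1 0

theorem tab6_inv : ∀ i, tab6 (tab6 i) = i := by decide +kernel

/-- The seven letters on 32 points. -/
def m : ℕ → Equiv.Perm (Fin 32)
  | 0 => ⟨tab0, tab0, tab0_inv, tab0_inv⟩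
  | 1 => ⟨tab1, tab1, tab1_inv, tab1_inv⟩
  | 2 => ⟨tab2, tab2, tab2_inv, tab2_inv⟩
  | 3 => ⟨tab3, tab3, tab3_inv, tab3_inv⟩
  | 4 => ⟨tab4, tab4, tab4_inv, tab4_inv⟩
  | 5 => ⟨tab5, tab5, tab5_inv, tab5_inv⟩
  | 6 => ⟨tab6, tab6, tab6_inv, tab6_inv⟩
  | _ => 1

/-- The images of the points under a word. -/
def key (w : List ℕ) : List ℕ := (List.finRange 32).map fun i => (ev m w i).1

theorem ev_eq_of_key {w w' : List ℕ} (h : key w = key w') : ev m w = ev m w' :=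
  Equiv.ext fun i => Fin.ext ((List.map_inj_left.1 h) i (List.mem_finRange i))

/-- Words for the centralizer of `z` and `u`. -/
def cvWords : List (List ℕ) := [
  [], [3], [4], [5], [6], [1, 2],
  [2, 1], [3, 4], [3, 5], [3, 6], [4, 5], [4, 6],
  [5, 6], [6, 3], [0, 1, 0], [0, 3, 1], [0, 3, 2], [1, 2, 3],
  [1, 2, 4], [1, 2, 5], [1, 2, 6], [1, 3, 0], [2, 1, 4], [2, 1, 5],
  [2, 1, 6], [3, 4, 5], [3, 5, 6], [4, 5, 6], [5, 6, 3], [6, 1, 2],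
  [6, 2, 1], [0, 1, 0, 3], [0, 1, 0, 4], [0, 1, 0, 5], [0, 1, 0, 6], [0, 1, 3, 1],
  [0, 2, 6, 0], [0, 3, 1, 4], [0, 3, 1, 5], [0, 3, 1, 6], [0, 3, 2, 3], [0, 3, 2, 4],
  [0, 3, 2, 5], [0, 3, 2, 6], [0, 6, 0, 1], [0, 6, 0, 2], [1, 0, 6, 0], [1, 2, 3, 4],
  [1, 2, 3, 5], [1, 2, 3, 6], [1, 2, 4, 5], [1, 2, 4, 6], [1, 2, 5, 6], [1, 2, 6, 3],
  [1, 3, 0, 4], [1, 3, 0, 5], [1, 3, 0, 6], [2, 1, 4, 5], [2, 1, 4, 6], [2, 1, 5, 6],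
  [2, 1, 6, 3], [3, 6, 1, 2], [3, 6, 2, 1], [4, 6, 1, 2], [4, 6, 2, 1], [5, 6, 1, 2],
  [5, 6, 2, 1], [6, 0, 1, 0], [6, 0, 3, 1], [6, 0, 3, 2], [6, 1, 2, 3], [6, 1, 2, 6],
  [6, 1, 3, 0], [6, 2, 1, 6], [0, 1, 0, 3, 4], [0, 1, 0, 3, 5], [0, 1, 0, 3, 6], [0, 1, 0, 4, 5],
  [0, 1, 0, 4, 6], [0, 1, 0, 6, 3], [0, 1, 2, 6, 0], [0, 1, 3, 1, 4], [0, 1, 3, 1, 5], [0, 1, 3, 1, 6],
  [0, 1, 6, 0, 1], [0, 1, 6, 0, 2], [0, 2, 5, 6, 0], [0, 2, 6, 0, 3], [0, 2, 6, 0, 4], [0, 2, 6, 0, 6],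
  [0, 2, 6, 1, 0], [0, 2, 6, 3, 1], [0, 2, 6, 3, 2], [0, 3, 0, 6, 0], [0, 3, 1, 4, 5], [0, 3, 1, 4, 6],
  [0, 3, 1, 5, 6], [0, 3, 1, 6, 3], [0, 3, 2, 3, 4], [0, 3, 2, 3, 5], [0, 3, 2, 3, 6], [0, 3, 2, 4, 5],
  [0, 3, 2, 4, 6], [0, 3, 2, 5, 6], [0, 3, 2, 6, 3], [0, 5, 6, 0, 2], [0, 6, 0, 1, 3], [0, 6, 0, 1, 4],
  [0, 6, 0, 1, 6], [0, 6, 0, 2, 3], [0, 6, 0, 2, 4], [0, 6, 0, 2, 6], [0, 6, 0, 3, 0], [0, 6, 2, 1, 0],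
  [0, 6, 2, 3, 2], [1, 0, 6, 0, 3], [1, 0, 6, 0, 4], [1, 0, 6, 0, 6], [1, 0, 6, 1, 0], [1, 0, 6, 3, 1],
  [1, 0, 6, 3, 2], [1, 2, 3, 4, 5], [1, 2, 3, 5, 6], [1, 2, 5, 6, 3], [1, 2, 6, 2, 1], [1, 3, 0, 4, 5],
  [1, 3, 0, 5, 6], [1, 6, 0, 6, 2], [1, 6, 2, 6, 1], [2, 1, 5, 6, 3], [2, 1, 6, 1, 2], [2, 3, 2, 6, 0],
  [2, 3, 6, 0, 2], [3, 0, 2, 6, 0], [3, 5, 6, 1, 2], [3, 5, 6, 2, 1], [3, 6, 0, 1, 0], [3, 6, 1, 2, 3],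
  [3, 6, 1, 2, 6], [3, 6, 1, 3, 0], [3, 6, 2, 1, 6], [4, 6, 0, 1, 0], [4, 6, 1, 2, 3], [4, 6, 1, 2, 6],
  [4, 6, 1, 3, 0], [4, 6, 2, 1, 6], [5, 6, 0, 3, 2], [5, 6, 1, 2, 3], [5, 6, 1, 2, 6], [5, 6, 2, 1, 6],
  [6, 0, 1, 0, 3], [6, 0, 1, 3, 1], [6, 0, 3, 2, 3], [6, 0, 6, 0, 1], [6, 1, 0, 6, 0], [6, 1, 2, 6, 3],
  [6, 2, 1, 6, 3], [0, 1, 0, 3, 4, 5], [0, 1, 0, 6, 2, 1], [0, 1, 2, 5, 6, 0], [0, 1, 2, 6, 0, 3], [0, 1, 2, 6, 3, 1],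
  [0, 1, 3, 1, 4, 5], [0, 1, 3, 1, 5, 6], [0, 1, 5, 6, 0, 2], [0, 1, 6, 0, 1, 3], [0, 1, 6, 0, 1, 6], [0, 1, 6, 0, 2, 4],
  [0, 2, 4, 0, 4, 2], [0, 2, 5, 6, 1, 0], [0, 2, 5, 6, 3, 1], [0, 2, 6, 0, 1, 2], [0, 2, 6, 0, 4, 6], [0, 3, 0, 6, 0, 4],
  [0, 3, 1, 4, 5, 6], [0, 3, 1, 5, 6, 3], [0, 3, 2, 3, 4, 5], [0, 3, 2, 4, 5, 6], [0, 3, 2, 5, 6, 3], [0, 4, 2, 3, 6, 1],
  [0, 4, 2, 3, 6, 2], [0, 6, 2, 3, 2, 3], [1, 0, 6, 0, 3, 4], [1, 0, 6, 1, 0, 6], [1, 0, 6, 2, 6, 0], [1, 2, 1, 0, 6, 0],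
  [1, 2, 3, 6, 2, 1], [1, 2, 6, 0, 3, 2], [1, 3, 6, 2, 1, 0], [1, 6, 3, 2, 4, 0], [3, 5, 6, 2, 1, 6], [5, 6, 1, 2, 6, 3]]

/-- The word `x`. -/
def xWord : List ℕ := [1, 0, 6, 1, 0]

/-- The conjugates of `x` and the generators of the centre. -/
def gWords : List (List ℕ) := [
  [1, 0, 6, 1, 0], [1, 2, 1, 0, 6, 1, 0, 2, 1], [2, 1, 1, 0, 6, 1, 0, 1, 2], [5], [4]]

/-- The twelve elements with square `u`. -/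
def sqWords : List (List ℕ) := [
  [1, 0, 6, 1, 0], [1, 0, 6, 1, 0, 5], [1, 0, 6, 1, 0, 4], [1, 0, 6, 1, 0, 5, 4], [1, 2, 1, 0, 6, 1, 0, 2, 1], [1, 2, 1, 0, 6, 1, 0, 2, 1, 5],
  [1, 2, 1, 0, 6, 1, 0, 2, 1, 4], [1, 2, 1, 0, 6, 1, 0, 2, 1, 5, 4], [2, 1, 1, 0, 6, 1, 0, 1, 2], [2, 1, 1, 0, 6, 1, 0, 1, 2, 5], [2, 1, 1, 0, 6, 1, 0, 1, 2, 4], [2, 1, 1, 0, 6, 1, 0, 1, 2, 5, 4]]

/-- The subgroup of order sixteen. -/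
def lIdx : List (List ℕ) := [[], [0], [1], [2], [3], [4], [0, 2], [0, 3], [0, 4], [1, 0], [1, 3], [2, 3], [3, 4], [0, 2, 3], [0, 3, 4], [1, 0, 3]]

/-- A word of the subgroup of order sixteen. -/
def lWord (l : List ℕ) : List ℕ := l.flatMap fun i => gWords.getD i []

theorem m_inv : ∀ k < 7, m k * m k = 1 := by decide +kernel

theorem m_rels : ∀ w ∈ SporBound.J2UC.cert.rels, ev m w = 1 := by decide +kernel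

theorem z_ne : ev m [5] ≠ 1 := by decide +kernel

theorem cv_comm : ∀ w ∈ cvWords, key (4 :: w) = key (w ++ [4]) ∧ ∀ x ∈ w, x < 7 := by decide +kernel

theorem cv_nodup : (cvWords.map key).Nodup := by decide +kernel

theorem cv_length : cvWords.length = 192 := by decide +kernel

theorem cv_sq : ∀ w ∈ cvWords, key (w ++ w) = key [4] → key w ∈ sqWords.map key := by decide +kernel

theorem l_nodup : (lIdx.map fun l => key (lWord l)).Nodup := by decide +kernel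

theorem l_range : lIdx.length = 16 ∧ ∀ l ∈ lIdx, ∀ x ∈ lWord l, x < 7 := by decide +kernel

theorem x_prod : key ([1, 0, 6, 1, 0, 1, 2, 1, 0, 6, 1, 0, 2, 1, 2, 1, 1, 0, 6, 1, 0, 1, 2]) = key [4] := by decide +kernel

theorem xw_sq : key (xWord ++ [3] ++ xWord ++ [3]) = key [5, 4] := by decide +kernel

theorem y_cases : ∀ l ∈ lIdx, key ([3] ++ lWord l ++ [3] ++ lWord l) = key [] →
    key ([3] ++ lWord l ++ [1, 2, 3] ++ lWord l ++ [2, 1]) = key ([2, 1, 3] ++ lWord l ++ [1, 2]) →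
    key ([3] ++ lWord l) = key [3] ∨ key ([3] ++ lWord l) = key [6] := by decide +kernel

end CfsgLib.Recog.JTwoU.Model
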