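import Cfsg.Agent.Lib.Recog.JankoTwoUnique.Point
import Cfsg.Agent.Lib.Recog.JankoTwoUnique.Chain
import Cfsg.Agent.Lib.Recog.JankoTwoUnique.Model
import Mathlib

/-!
Owner: helper29. The centralizer of `z` is the model on 32 points.
-/

set_option autoImplicit false
set_option linter.all false
set_option maxRecDepth 8000

namespace CfsgLib.Recog.JTwoU

open Subgroup Cfsg CfsgLib.Recog CfsgLib.Recog.HJType CfsgLib.Recog.SporBound

theorem m_ext (k : ℕ) : Model.m k * Model.m k = 1 ∧ (8 ≤ k → Model.m k = 1) := by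
  by_cases hk : k < 7
  · exact ⟨Model.m_inv k hk, fun h => by omega⟩
  · obtain ⟨j, rfl⟩ : ∃ j, k = j + 7 := ⟨k - 7, by omega⟩
    exact ⟨one_mul 1, fun _ => rfl⟩

theorem m_low : ∀ k < 4, Model.m k = aA (Model.m 0) (Model.m 1 * Model.m 2) k := by
  decide +kernel

variable {G : Type*} [Group G] [Finite G] {z u v σ : G} {Q Q' : Subgroup G} (B : Base z Q u Q' v σ)
include B

theorem Base.y2 : wY v σ u * wY v σ u = 1 := by
  set c := wC v σ
  set d := wD v σ
  have hinner : ∀ {a x : G}, a * a = 1 → x * x = 1 → a * x * a * (a * x * a) = 1 := fun ha hx => conj_invol ha hx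
  have h := hinner B.c2 (hinner B.d2 (hinner B.v2 (hinner B.d2 (hinner B.c2 (hinner B.v2 (hinner B.four.uu B.v2))))))
  have e : wY v σ u = c * (d * (v * (d * (c * (v * (u * v * u) * v) * c) * d) * v) * d) * c := by
    simp only [wY, c, d, mul_assoc]
  rw [e]
  exact h

theorem Base.zc : ∀ k, k < 7 → lett v σ u z 1 k ∈ centralizer ({z} : Set G) := by
  intro k hk
  have hv := B.vC
  have hc := B.cC
  have hd : wD v σ ∈ centralizer ({z} : Set G) := mul_mem hc B.σK.1
  have hu : u ∈ centralizer ({z} : Set G) := B.four.hz.loc.le B.four.mem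
  interval_cases k
  · exact hv
  · exact hc
  · exact hd
  · exact B.wC'
  · exact hu
  · exact mem_cent.2 rfl
  · exact mul_mem (mul_mem (mul_mem (mul_mem (mul_mem (mul_mem (mul_mem (mul_mem (mul_mem (mul_mem (mul_mem
      (mul_mem (mul_mem (mul_mem hc hd) hv) hd) hc) hv) hu) hv) hu) hv) hc) hd) hv) hd) hc

theorem Base.letters_inv {p : G} (hp : p * p = 1) : ∀ k, lett v σ u z p k * lett v σ u z p k = 1 := by
  intro k
  rcases k with _ | _ | _ | _ | _ | _ | _ | _ | k
  exacts [B.v2, B.c2, B.d2, B.w2, B.four.uu, B.four.hz.loc.zz, B.y2, hp, one_mul 1]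

theorem Base.low (p : G) : ∀ k, k < 4 → lett v σ u z p k =
    aA (lett v σ u z p 0) (lett v σ u z p 1 * lett v σ u z p 2) k := by
  intro k hk
  show _ = aA v (wC v σ * wD v σ) k
  rw [B.ids.1]
  interval_cases k <;> rfl

theorem Base.relsC (p : G) : ∀ w ∈ J2UC.cert.rels, ev (lett v σ u z p) w = 1 := by
  have F := B.four
  have hA : ∀ w ∈ relsA, (∀ k ∈ w, k < 4) → ev (lett v σ u z p) w = 1 := by
    intro w hw hk
    rw [ev_congr (b := aA v σ) (fun k hk' => by
      have := hk k hk'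
      interval_cases k <;> rfl)]
    exact B.relA w hw
  have inv := B.letters_inv (p := 1) (one_mul 1)
  have hz : ∀ k, k < 7 → z * lett v σ u z p k * (z * lett v σ u z p k) = 1 := by
    intro k hk
    have e : lett v σ u z p k = lett v σ u z 1 k := by interval_cases k <;> rfl
    rw [e, show z * lett v σ u z 1 k * (z * lett v σ u z 1 k) =
      z * (lett v σ u z 1 k * z) * lett v σ u z 1 k by group, mem_cent.1 (B.zc k hk), ← mul_assoc, F.hz.loc.zz,
      one_mul, inv]
  intro w hw
  simp only [J2UC.cert, List.mem_cons, List.not_mem_nil, or_false] at hw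
  rcases hw with rfl | rfl | rfl | rfl | rfl | rfl | rfl | rfl | rfl | rfl | rfl | rfl | rfl | rfl | rfl | rfl |
    rfl | rfl | rfl | rfl | rfl | rfl
  · exact hA _ (by simp [relsA]) (by decide)
  · exact hA _ (by simp [relsA]) (by decide)
  · exact hA _ (by simp [relsA]) (by decide)
  · exact hA _ (by simp [relsA]) (by decide)
  · simpa [ev, lett] using F.uu
  · simpa [ev, lett] using F.hz.loc.zz
  · simpa [ev, lett] using B.y2
  · exact hA _ (by simp [relsA]) (by decide)
  · exact hA _ (by simp [relsA]) (by decide)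
  · exact hA _ (by simp [relsA]) (by decide)
  · exact hA _ (by simp [relsA]) (by decide)
  · have h := congrArg (z * ·) B.uv4
    simp only [F.hz.loc.zz] at h
    simpa [ev, lett, pow_succ, mul_assoc] using h
  · have h := B.y2
    unfold wY at h
    simpa [ev, lett, wY, mul_assoc] using h
  · have hdc : wD v σ * wC v σ = σ⁻¹ := eq_inv_of_mul_eq_one_left (by
      conv_lhs => arg 2; rw [← B.ids.1]
      rw [show wD v σ * wC v σ * (wC v σ * wD v σ) = wD v σ * (wC v σ * wC v σ) * wD v σ by group, B.c2,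
        mul_one, B.d2])
    have : σ * u * σ⁻¹ * u = 1 := by rw [B.sigma_conj, F.uu]
    conv at this => lhs; rw [← hdc]; arg 1; arg 1; arg 1; rw [← B.ids.1]
    simpa [ev, lett, mul_assoc] using this
  · have : wW v σ * u * wW v σ * u = 1 := by
      rw [B.wu, mul_assoc u, B.w2, mul_one, F.uu]
    simpa [ev, lett, mul_assoc] using this
  · simpa [ev, lett, mul_assoc] using hz 0 (by norm_num)
  · simpa [ev, lett, mul_assoc] using hz 1 (by norm_num)
  · simpa [ev, lett, mul_assoc] using hz 2 (by norm_num)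
  · simpa [ev, lett, mul_assoc] using hz 4 (by norm_num)
  · simpa [ev, lett, mul_assoc] using hz 3 (by norm_num)
  · have h := B.uc4
    have hcu : (wC v σ * u) ^ 4 = z := by
      have e : wC v σ * u = wC v σ * (u * wC v σ) * (wC v σ)⁻¹ := by group
      rw [e, conj_pow, h, mem_cent.1 B.cC, mul_inv_cancel_right]
    have h2 := congrArg (· * z) hcu
    simp only [F.hz.loc.zz] at h2
    simpa [ev, lett, pow_succ, mul_assoc] using h2
  · have h := B.prod
    rw [← B.ids.1] at h
    simpa [ev, lett, pow_succ, mul_assoc] using h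

theorem Base.crels : CRels (lett v σ u z 1) :=
  ⟨B.letters_inv (one_mul 1), fun k hk => by
    obtain ⟨j, rfl⟩ : ∃ j, k = j + 8 := ⟨k - 8, by omega⟩
    rfl, B.low 1, B.relsC 1⟩

theorem Base.seven_eq : seven (lett v σ u z 1) = centralizer ({z} : Set G) := by
  classical
  set a := lett v σ u z 1 with ha
  set C := centralizer ({z} : Set G) with hC
  set H := seven a with hH
  have hle : H ≤ C := (closure_le _).2 (by rintro g ⟨k, hk, rfl⟩; exact B.zc k hk)
  have hvH : v ∈ H := seven_mem a (k := 0) (by norm_num)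
  have hσH : σ ∈ H := B.ids.1 ▸ mul_mem (seven_mem a (k := 1) (by norm_num)) (seven_mem a (k := 2) (by norm_num))
  have huH : u ∈ H := seven_mem a (k := 4) (by norm_num)
  have hzH : z ∈ H := seven_mem a (k := 5) (by norm_num)
  have F := B.four
  have hQi : ∀ x, v * σ * x * (v * σ)⁻¹ ∈ Q ⊓ H ↔ x ∈ Q ⊓ H := by
    intro x
    have hgC : v * σ ∈ C := mul_mem B.vC B.σK.1
    have hgH : v * σ ∈ H := mul_mem hvH hσH
    constructor
    · intro h
      have h1 := F.hz.loc.conj_mem _ (Subgroup.inv_mem _ hgC) _ h.1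
      have h2 := mul_mem (mul_mem (Subgroup.inv_mem _ hgH) h.2) hgH
      refine ⟨?_, ?_⟩
      · rwa [show (v * σ)⁻¹ * (v * σ * x * (v * σ)⁻¹) * (v * σ)⁻¹⁻¹ = x by group] at h1
      · rwa [show (v * σ)⁻¹ * (v * σ * x * (v * σ)⁻¹) * (v * σ) = x by group] at h2
    · intro h
      exact ⟨F.hz.loc.conj_mem _ hgC _ h.1, mul_mem (mul_mem hgH h.2) (Subgroup.inv_mem _ hgH)⟩
  set D := Q ⊓ H with hD
  have hzD : z ∈ D := ⟨F.hz.loc.z_mem, hzH⟩
  have huD : u ∈ D := ⟨F.mem, huH⟩
  -- the order of the intersection with `Q`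
  have hD32 : Nat.card D = 32 := by
    haveI : Fact (Nat.Prime 5) := ⟨by norm_num⟩
    let e : Equiv.Perm {x : G // x ∈ D ∧ x ≠ 1 ∧ x ≠ z} :=
      { toFun := fun x => ⟨v * σ * x * (v * σ)⁻¹, (hQi x).2 x.2.1, fun e => x.2.2.1 (conj_eq_one_iff.1 e),
          fun e => x.2.2.2 (by
            have hgz : v * σ * z * (v * σ)⁻¹ = z := by
              rw [mem_cent.1 (mul_mem B.vC B.σK.1 : v * σ ∈ C), mul_inv_cancel_right]
            exact mul_left_cancel (mul_right_cancel (e.trans hgz.symm)))⟩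
        invFun := fun x => ⟨(v * σ)⁻¹ * x * (v * σ), (hQi _).1 (by simpa [mul_assoc] using x.2.1),
          fun e => x.2.2.1 (by
            calc (x : G) = v * σ * ((v * σ)⁻¹ * x * (v * σ)) * (v * σ)⁻¹ := by group
              _ = 1 := by rw [e]; group),
          fun e => x.2.2.2 (by
            calc (x : G) = v * σ * ((v * σ)⁻¹ * x * (v * σ)) * (v * σ)⁻¹ := by group
              _ = z := by rw [e, mem_cent.1 (mul_mem B.vC B.σK.1 : v * σ ∈ C), mul_inv_cancel_right])⟩
        left_inv := fun x => Subtype.ext (by simp [mul_assoc])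
        right_inv := fun x => Subtype.ext (by simp [mul_assoc]) }
    have he : ∀ (n : ℕ) (x : {x : G // x ∈ D ∧ x ≠ 1 ∧ x ≠ z}),
        ((e ^ n) x : G) = (v * σ) ^ n * x * ((v * σ) ^ n)⁻¹ := by
      intro n
      induction n with
      | zero => intro x; simp
      | succ n ih =>
        intro x
        rw [pow_succ', Equiv.Perm.mul_apply]
        show v * σ * ((e ^ n) x : G) * (v * σ)⁻¹ = _
        rw [ih, pow_succ', mul_inv_rev ((v * σ) : G) ((v * σ) ^ n)]
        simp only [mul_assoc]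
    have he5 : e ^ 5 ^ 1 = 1 := by
      refine Equiv.ext fun x => Subtype.ext ?_
      rw [he, pow_one, B.vs5]
      simp
    haveI := Fintype.ofFinite {x : G // x ∈ D ∧ x ≠ 1 ∧ x ≠ z}
    have h5 : 5 ∣ Nat.card {x : G // x ∈ D ∧ x ≠ 1 ∧ x ≠ z} := by
      by_contra hnd
      rw [Nat.card_eq_fintype_card] at hnd
      obtain ⟨x, hx⟩ := Equiv.Perm.exists_fixed_point_of_prime hnd he5
      exact (five_fix F.hz.loc (mul_mem B.vC B.σK.1) B.vs5 B.vsQ x.2.1.1
        (Or.inl (congrArg Subtype.val hx))).elim x.2.2.1 x.2.2.2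
    have hcnt : Nat.card {x : G // x ∈ D ∧ x ≠ 1 ∧ x ≠ z} = Nat.card D - 2 := by
      have : Nat.card {x : G // x ∈ D ∧ x ≠ 1 ∧ x ≠ z} = ((D : Set G) \ {1, z}).ncard := by
        rw [← Nat.card_coe_set_eq]
        refine Nat.card_congr (Equiv.subtypeEquivRight fun x => ?_)
        simp
      rw [this, Set.ncard_sdiff (by rintro x (rfl | rfl); exacts [one_mem D, hzD]),
        Set.ncard_pair F.hz.loc.z_ne.symm, ← Nat.card_coe_set_eq]
      rfl
    have hdvd : Nat.card D ∣ 2 ^ 5 := by
      rw [show (2 : ℕ) ^ 5 = Nat.card Q by rw [F.hz.loc.card]; norm_num]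
      exact card_dvd_of_le inf_le_left
    have h3 : 3 ≤ Nat.card D := by
      have hsub : ({1, z, u} : Set G) ⊆ D := by rintro x (rfl | rfl | rfl); exacts [one_mem D, hzD, huD]
      have := Set.ncard_le_ncard hsub (Set.toFinite _)
      rw [Set.ncard_eq_three.2 ⟨1, z, u, F.hz.loc.z_ne.symm, F.u_ne.symm, F.ne.symm, rfl⟩,
        ← Nat.card_coe_set_eq] at this
      exact this
    obtain ⟨i, hi, e⟩ := (Nat.dvd_prime_pow Nat.prime_two).1 hdvd
    rw [hcnt, e] at h5
    rw [e] at h3 ⊢
    interval_cases i <;> simp_all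
  have hQH : Q ≤ H := by
    have := Subgroup.eq_of_le_of_card_ge (inf_le_left : D ≤ Q) (by rw [hD32, F.hz.loc.card])
    exact fun x hx => (this.ge hx).2
  obtain ⟨π, hπ, hker⟩ := F.hz.loc.quot
  obtain ⟨f, fv, fs⟩ := B.hom
  have hrange : f.range ≤ H := by
    have hcl : closure ({stdV, stdS} : Set (alternatingGroup (Fin 5))) = ⊤ := closure_std
    rw [MonoidHom.range_eq_map, ← hcl, MonoidHom.map_closure, closure_le]
    rintro _ ⟨x, rfl | rfl, rfl⟩
    · exact fv ▸ hvH
    · exact fs ▸ hσH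
  let ψ : alternatingGroup (Fin 5) →* alternatingGroup (Fin 5) :=
    π.comp (f.codRestrict C fun x => hle (hrange ⟨x, rfl⟩))
  have hψ : Function.Surjective ψ := by
    refine Finite.injective_iff_surjective.1 ?_
    haveI : IsSimpleGroup (alternatingGroup (Fin 5)) := alternatingGroup.isSimpleGroup_five
    rcases (MonoidHom.normal_ker ψ).eq_bot_or_eq_top with e | e
    · exact (MonoidHom.ker_eq_bot_iff ψ).1 e
    · exfalso
      have hσQ : (f.codRestrict C (fun x => hle (hrange ⟨x, rfl⟩)) stdS : G) ∈ Q :=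
        (hker _).1 (MonoidHom.mem_ker.1 (e ▸ mem_top stdS : stdS ∈ ψ.ker))
      exact F.sigma_not_mem B.σ3 B.σ1 (fs ▸ hσQ)
  refine le_antisymm hle fun c hc => ?_
  obtain ⟨x, hx⟩ := hψ (π ⟨c, hc⟩)
  have hq : ((⟨c, hc⟩ * (f.codRestrict C (fun x => hle (hrange ⟨x, rfl⟩)) x)⁻¹ : C) : G) ∈ Q := by
    refine (hker _).1 ?_
    rw [map_mul, map_inv, mul_inv_eq_one]
    exact hx.symm
  have := mul_mem (hQH hq) (hrange ⟨x, rfl⟩)
  simpa using this

end CfsgLib.Recog.JTwoU
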