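import Cfsg.Agent.Lib.Recog.JankoTwoUnique.Transfer
import Cfsg.Agent.Lib.Recog.JankoTwoType.Order
import Cfsg.Agent.Lib.Recog.JankoTwoType.EType
import Cfsg.Agent.Lib.Recog.SporBound.J2UTop.Valid
import Cfsg.Agent.Lib.Recog.SporBound.J2UEight.Valid
import Cfsg.Agent.Lib.Recog.SporBound.J2UTen.Valid
import Mathlib

/-!
Owner: helper29. Eight generators of a group of Hall–Janko type satisfying the presentation.
-/

set_option autoImplicit false
set_option linter.all false
set_option maxRecDepth 8000

namespace CfsgLib.Recog.JTwoU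

open Subgroup Cfsg CfsgLib.Recog CfsgLib.Recog.HJType CfsgLib.Recog.SporBound

local notation "A5" => alternatingGroup (Fin 5)

/-- The relators involving the point, apart from the last one. -/
def extraP : List (List ℕ) :=
  [[7, 7], [7, 1, 2, 7, 2, 1], [7, 4, 7, 4], [7, 5, 7, 5, 4], [7, 1, 0, 6, 1, 0, 7, 0, 1, 6, 0, 1],
    [7, 3, 7, 6], [7, 1, 4, 1, 7, 1, 4, 1, 7, 1, 4, 1], [7, 0, 3, 2, 7, 1, 2, 6]]

/-- The word `p t`. -/
def ptWord : List ℕ := [7, 0, 2]

/-- Powers of the word `p t`. -/
def ptPow (n : ℕ) : List ℕ := (List.replicate n ptWord).flatten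

/-- The renumbering of the letters in the certificate of exponent ten. -/
def perm10 : List ℕ := [6, 4, 7, 1, 2, 5, 3, 0]

theorem top_rels : J2UTop.cert.rels.all
    (fun w => (J2UC.cert.rels ++ extraP ++ [ptPow 6]).contains w) = true := by decide +kernel

theorem eight_rels : J2UEight.cert.rels.all
    (fun w => (J2UC.cert.rels ++ extraP ++ [ptPow 8]).contains w) = true := by decide +kernel

theorem ten_rels : J2UTen.cert.rels.all
    (fun w => (J2UC.cert.rels ++ extraP ++ [ptPow 10]).contains (w.map fun k => perm10.getD k 8)) = true := by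
  decide +kernel

theorem eight_closer : J2UEight.cert.endsAt (J2UEight.closers.getD 0 0) 0 [7] = true ∧
    CfsgLib.ThreeTrans.CosetIndex.fld (J2UEight.closers.getD 0 0) 0 = 0 := by decide +kernel

theorem ten_closer : J2UTen.cert.endsAt (J2UTen.closers.getD 0 0) 0 [2] = true ∧
    CfsgLib.ThreeTrans.CosetIndex.fld (J2UTen.closers.getD 0 0) 0 = 0 := by decide +kernel

set_option synthInstance.maxSize 5000 in
set_option synthInstance.maxHeartbeats 200000 in
theorem five_pow_cases : ∀ g : A5, g ^ 6 = 1 ∨ g ^ 10 = 1 := by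
  decide +kernel

theorem lett_p {M : Type*} [Group M] (v σ u z p : M) {k : ℕ} (hk : k < 7) :
    lett v σ u z p k = lett v σ u z 1 k := by interval_cases k <;> rfl

theorem ev_ptPow {M : Type*} [Group M] (a : ℕ → M) (n : ℕ) : ev a (ptPow n) = (ev a ptWord) ^ n := by
  induction n with
  | zero => rw [pow_zero]; rfl
  | succ n ih =>
    rw [ptPow, List.replicate_succ, List.flatten_cons, ev_append, ← ptPow, ih, pow_succ']

variable {G : Type*} [Group G] [Finite G] {z : G} {Q : Subgroup G}

/-- The order of a product of non-conjugate involutions. -/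
theorem pt_cases (h : Hyp z Q) {p t : G} (hp : orderOf p = 2) (hzp : IsConj z p) (ht : orderOf t = 2)
    (hzt : ¬ IsConj z t) : (p * t) ^ 6 = 1 ∨ (p * t) ^ 8 = 1 ∨ (p * t) ^ 10 = 1 := by
  set g := p * t with hg
  obtain ⟨hp2, hp1⟩ := inv_pair hp
  obtain ⟨ht2, ht1⟩ := inv_pair ht
  have heven : Even (orderOf g) := by
    rw [← Nat.not_odd_iff_even]
    intro hodd
    obtain ⟨d, -, hd⟩ := CfsgLib.Signalizer.exists_conj_of_odd hp ht hodd
    exact hzt (hzp.trans (isConj_iff.2 ⟨d, hd⟩))
  obtain ⟨m, hm⟩ := heven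
  have hpos : 0 < orderOf g := orderOf_pos g
  set k := g ^ m with hk
  have hk2 : k * k = 1 := by rw [hk, ← pow_add, ← hm, pow_orderOf_eq_one]
  have hk1 : k ≠ 1 := by
    intro e
    have := orderOf_dvd_of_pow_eq_one (hk ▸ e : g ^ m = 1)
    have := Nat.le_of_dvd (by omega) this
    omega
  have hgi : g⁻¹ = t * p := by
    rw [hg, mul_inv_rev, inv_eq_of_mul_eq_one_right ht2, inv_eq_of_mul_eq_one_right hp2]
  have hki : k⁻¹ = k := inv_eq_of_mul_eq_one_right hk2
  have hinvp : p * g * p⁻¹ = g⁻¹ := by
    rw [hgi, inv_eq_of_mul_eq_one_right hp2, hg, ← mul_assoc, hp2, one_mul]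
  have hkp : p * k = k * p := by
    have : p * k * p⁻¹ = k := by rw [hk, ← conj_pow, hinvp, inv_pow, ← hk, hki]
    exact mul_inv_eq_iff_eq_mul.1 this
  have hkt : t * k = k * t := by
    have hgk : Commute g k := (Commute.refl g).pow_right m
    have et : t = p * g := by rw [hg, ← mul_assoc, hp2, one_mul]
    rw [et]
    exact Commute.mul_left hkp hgk
  by_cases hzk : IsConj z k
  · obtain ⟨R, hR⟩ := h.exists_at hzk
    have hpR : p ∈ R := (hR.conj_iff hp2 hp1 (mem_cent.2 hkp)).1 (hzk.symm.trans hzp)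
    have hq : p * (t * p * t⁻¹) ∈ R := mul_mem hpR (hR.loc.conj_mem t (mem_cent.2 hkt) p hpR)
    have e : g ^ 2 = p * (t * p * t⁻¹) := by
      rw [sq, hg, inv_eq_of_mul_eq_one_right ht2]; group
    refine Or.inr (Or.inl ?_)
    rw [show (8 : ℕ) = 2 * (2 * 2) from rfl, pow_mul, e, pow_mul, sq, sq]
    rcases sq_cases hR.loc hq with e' | e' <;> rw [e']
    · exact one_mul 1
    · exact hR.loc.zz
  · obtain ⟨z', kk, U, B, hz', D⟩ := h.exists_cdata (ord_two hk2 hk1) hzk
    have hpC : p ∈ centralizer ({k} : Set G) := mem_cent.2 hkp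
    have htC : t ∈ centralizer ({k} : Set G) := mem_cent.2 hkt
    have hpB : p ∈ B := by_contra fun hn => hzk (hzp.trans (D.invOut p hpC hp hn))
    obtain ⟨a, ha, b, hb, rfl⟩ := D.exists_mul htC
    have hc : ∀ x ∈ U, ∀ y ∈ B, x * y = y * x := D.dp.2.2.1
    have hb2 : b * b = 1 := by
      have : a * b * (a * b) = b * b := by
        rw [show a * b * (a * b) = a * (b * a) * b by group, ← hc a ha b hb, ← mul_assoc, D.sqU a ha, one_mul]
      rw [← this, ht2]
    have hg2 : g ^ 2 = (p * b) ^ 2 := by
      rw [sq, sq, hg]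
      calc p * (a * b) * (p * (a * b)) = (p * a) * (b * p) * (a * b) := by group
        _ = (a * p) * ((b * p) * a) * b := by rw [hc a ha p hpB]; group
        _ = (a * p) * (a * (b * p)) * b := by rw [hc a ha (b * p) (mul_mem hb hpB)]
        _ = a * (p * a) * (b * p * b) := by group
        _ = (a * a) * (p * (b * p * b)) := by rw [← hc a ha p hpB]; group
        _ = p * b * (p * b) := by rw [D.sqU a ha, one_mul]; group
    obtain ⟨ψ⟩ := D.iso
    have key := five_pow_cases (ψ ⟨p, hpB⟩ * ψ ⟨b, hb⟩)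
    have hev : ∀ n : ℕ, (ψ ⟨p, hpB⟩ * ψ ⟨b, hb⟩) ^ (2 * n) = 1 → g ^ (2 * n) = 1 := by
      intro n hn
      rw [← map_mul, ← map_pow] at hn
      have := congrArg Subtype.val ((map_eq_one_iff ψ ψ.injective).1 hn)
      rw [pow_mul, hg2, ← pow_mul]
      simpa using this
    rcases key with e | e
    · exact Or.inl (hev 3 e)
    · exact Or.inr (Or.inr (hev 5 e))

variable {u v σ : G} {Q' : Subgroup G}

/-- Eight letters satisfying all the relators. -/
theorem exists_gens (h : Hyp z Q) (B : Base z Q u Q' v σ) : ∃ p : G, p ∈ Q' ∧ p * z * p = z * u ∧ p * z ≠ z * p ∧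
    p * p = 1 ∧ ∀ w ∈ J2UC.cert.rels ++ extraP ++ [ptPow 6], ev (lett v σ u z p) w = 1 := by
  obtain ⟨p, hpQ, hp2, hpσ, hpu, hpz, hne⟩ := B.exists_point
  refine ⟨p, hpQ, hpz, hne, hp2, ?_⟩
  have F := B.four
  obtain ⟨hx, hw⟩ := B.point_rels hpQ hp2 hpσ hpu hpz
  set a := lett v σ u z p with ha
  have hinv : ∀ k, a k * a k = 1 := B.letters_inv hp2
  have hbig : a 15 = 1 := rfl
  have hxa : ev a [1, 0, 6, 1, 0] = ev (lett v σ u z 1) Model.xWord := by
    rw [show Model.xWord = [1, 0, 6, 1, 0] from rfl]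
    exact ev_congr fun k hk => lett_p v σ u z p (by simp at hk; omega)
  have hpi : p⁻¹ = p := inv_eq_of_mul_eq_one_right hp2
  have hdc : wD v σ * wC v σ = σ⁻¹ := eq_inv_of_mul_eq_one_left (by
    conv_lhs => arg 2; rw [← B.ids.1]
    rw [show wD v σ * wC v σ * (wC v σ * wD v σ) = wD v σ * (wC v σ * wC v σ) * wD v σ by group, B.c2,
      mul_one, B.d2])
  have hrelP : ∀ w ∈ J2UC.cert.rels ++ extraP, ev a w = 1 := by
    intro w hw'
    rcases List.mem_append.1 hw' with h' | h'
    · exact B.relsC p w h'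
    · simp only [extraP, List.mem_cons, List.not_mem_nil, or_false] at h'
      rcases h' with rfl | rfl | rfl | rfl | rfl | rfl | rfl | rfl
      · simpa [ev, ha, lett] using hp2
      · have : p * σ * p * σ⁻¹ = 1 := by rw [hpσ, mul_assoc σ, hp2, mul_one, mul_inv_cancel]
        conv at this => lhs; rw [← hdc]; arg 1; arg 1; arg 2; rw [← B.ids.1]
        simpa [ev, ha, lett, mul_assoc] using this
      · have : p * u * p * u = 1 := by rw [hpu, mul_assoc u, hp2, mul_one, F.uu]
        simpa [ev, ha, lett, mul_assoc] using this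
      · have : p * z * p * z * u = 1 := by
          rw [hpz, show z * u * z * u = (z * u * z) * u from rfl, F.comm, mul_assoc u, F.hz.loc.zz, mul_one, F.uu]
        simpa [ev, ha, lett, mul_assoc] using this
      · rw [show ([7, 1, 0, 6, 1, 0, 7, 0, 1, 6, 0, 1] : List ℕ) =
          [7] ++ ([1, 0, 6, 1, 0] ++ ([7] ++ ([1, 0, 6, 1, 0] : List ℕ).reverse)) from rfl,
          ev_append, ev_append, ev_append]
        show ev a [7] * (ev a [1, 0, 6, 1, 0] * (ev a [7] * ((([1, 0, 6, 1, 0] : List ℕ).reverse.map a).prod))) = 1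
        rw [CfsgLib.ThreeTrans.CosetIndex.prod_reverse_eq_inv a hinv]
        show ev a [7] * (ev a [1, 0, 6, 1, 0] * (ev a [7] * (ev a [1, 0, 6, 1, 0])⁻¹)) = 1
        rw [hxa, show ev a [7] = p by simp [ev, ha, lett], ← mul_assoc, ← mul_assoc, hx, mul_inv_cancel]
      · have : p * wW v σ * p * wY v σ u = 1 := by rw [hw, B.y2]
        simpa [ev, ha, lett, mul_assoc] using this
      · have := B.rot hp2 hpσ hpu hpz
        simpa [ev, ha, lett, pow_three, mul_assoc] using this
      · have hid : v * wW v σ * wD v σ = wW v σ * σ⁻¹ := by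
          rw [← hdc]
          have h1 := B.relA [0, 3, 2, 1, 2, 3] (by simp [relsA])
          have h2 : v * wW v σ * wD v σ * (wC v σ * wD v σ * wW v σ) = 1 := by
            simpa [ev, aA, mul_assoc] using h1
          rw [eq_inv_of_mul_eq_one_left h2, mul_inv_rev, mul_inv_rev, inv_eq_of_mul_eq_one_right B.w2,
            inv_eq_of_mul_eq_one_right B.d2, inv_eq_of_mul_eq_one_right B.c2]
        have hps : Commute p σ := hpσ
        have : p * (v * wW v σ * wD v σ) * p * (σ * wY v σ u) = 1 := by
          rw [hid]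
          calc p * (wW v σ * σ⁻¹) * p * (σ * wY v σ u) = p * wW v σ * (σ⁻¹ * p) * σ * wY v σ u := by group
            _ = p * wW v σ * p * wY v σ u := by rw [← hps.inv_right.eq]; group
            _ = 1 := by rw [hw, B.y2]
        conv at this => lhs; arg 2; arg 1; rw [← B.ids.1]
        simpa [ev, ha, lett, mul_assoc] using this
  -- the order of `p t`
  have ht2 : (v * wD v σ) * (v * wD v σ) = 1 := by
    simpa [ev, aA, mul_assoc] using B.relA [0, 2, 0, 2] (by simp [relsA])
  have htC : v * wD v σ ∈ centralizer ({z} : Set G) := mul_mem B.vC (mul_mem B.cC B.σK.1)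
  obtain ⟨f, fv, fs⟩ := B.hom
  have htQ : v * wD v σ ∉ Q := by
    intro hQ
    set C := centralizer ({z} : Set G) with hC
    obtain ⟨π, hπ, hker⟩ := F.hz.loc.quot
    have hsub : ∀ x : A5, f x ∈ C := by
      intro x
      have hx : x ∈ closure ({stdV, stdS} : Set A5) := by rw [closure_std]; exact mem_top _
      induction hx using closure_induction with
      | mem x hx =>
        rcases hx with rfl | rfl
        · exact fv ▸ B.vC
        · exact fs ▸ B.σK.1
      | one => rw [map_one]; exact one_mem _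
      | mul a b _ _ ha hb => rw [map_mul]; exact mul_mem ha hb
      | inv a _ ha => rw [map_inv]; exact Subgroup.inv_mem _ ha
    haveI : IsSimpleGroup A5 := alternatingGroup.isSimpleGroup_five
    let ψ : A5 →* A5 := π.comp (f.codRestrict C hsub)
    rcases (MonoidHom.normal_ker ψ).eq_bot_or_eq_top with e | e
    · refine std_ids.2.2.1 ((MonoidHom.ker_eq_bot_iff ψ).1 e ?_)
      rw [map_one]
      refine (hker _).2 ?_
      show f (stdV * wD stdV stdS) ∈ Q
      simpa only [map_mul, map_wC, wD, fv, fs] using hQ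
    · have : (f.codRestrict C hsub stdS : G) ∈ Q := (hker _).1 (MonoidHom.mem_ker.1 (e ▸ mem_top stdS : stdS ∈ ψ.ker))
      exact F.sigma_not_mem B.σ3 B.σ1 (fs ▸ this)
  have hp1 : p ≠ 1 := fun e => hne (by rw [e, one_mul, mul_one])
  have hzp : IsConj z p := (h.inner F.mem F.uu F.u_ne).trans (F.hu.inner hpQ hp2 hp1)
  have ht1 : v * wD v σ ≠ 1 := fun e => htQ (e ▸ one_mem _)
  have hzt : ¬ IsConj z (v * wD v σ) := h.outer_not_conj ht2 htC htQ
  have hpt : ev a ptWord = p * (v * wD v σ) := by simp [ev, ptWord, ha, lett]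
  have hC7 : seven (lett v σ u z 1) = centralizer ({z} : Set G) := B.seven_eq
  have hsub7 : ∀ (C' : List (List ℕ)), (∀ w ∈ C', ∀ k ∈ w, k < 7) →
      ∀ w ∈ C', ev a w ∈ centralizer ({z} : Set G) := by
    intro C' hC' w hw
    refine ev_mem fun k hk => ?_
    rw [ha, lett_p v σ u z p (hC' w hw k hk)]
    exact B.zc k (hC' w hw k hk)
  intro w hw'
  rcases List.mem_append.1 hw' with h' | h'
  · exact hrelP w h'
  simp only [List.mem_cons, List.not_mem_nil, or_false] at h'
  subst h'
  rw [ev_ptPow, hpt]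
  rcases pt_cases h (ord_two hp2 hp1) hzp (ord_two ht2 ht1) hzt with e | e | e
  · exact e
  · exfalso
    refine hne ?_
    have hrel : ∀ w ∈ J2UEight.cert.rels, (w.map a).prod = 1 := by
      intro w hw
      have := List.all_eq_true.1 eight_rels w hw
      simp only [List.contains_iff_mem] at this
      rcases List.mem_append.1 this with h' | h'
      · exact hrelP w h'
      · simp only [List.mem_cons, List.not_mem_nil, or_false] at h'
        subst h'
        show ev a (ptPow 8) = 1
        rw [ev_ptPow, hpt, e]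
    obtain ⟨v', hv0, good, -⟩ := Cert.exists_orbit hinv hbig J2UEight.ok (centralizer ({z} : Set G)) hrel
      (hsub7 J2UEight.cert.subs (by decide +kernel))
    have := Cert.mem_of_endsAt hinv hbig J2UEight.ok hv0 good eight_closer.1 eight_closer.2
    simpa [ha, lett] using mem_cent.1 this
  · exfalso
    refine hne ?_
    set a' : ℕ → G := fun k => a (perm10.getD k 8) with ha'
    have hinv' : ∀ k, a' k * a' k = 1 := fun k => hinv _
    have hbig' : a' 15 = 1 := rfl
    have hmap : ∀ w : List ℕ, (w.map a').prod = ev a (w.map fun k => perm10.getD k 8) := by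
      intro w; simp [ev, ha', List.map_map, Function.comp_def]
    have hrel : ∀ w ∈ J2UTen.cert.rels, (w.map a').prod = 1 := by
      intro w hw
      rw [hmap]
      have := List.all_eq_true.1 ten_rels w hw
      simp only [List.contains_iff_mem] at this
      rcases List.mem_append.1 this with h' | h'
      · exact hrelP _ h'
      · simp only [List.mem_cons, List.not_mem_nil, or_false] at h'
        rw [h', ev_ptPow, hpt, e]
    have hsub : Cert.WordsIn a' (centralizer ({z} : Set G)) J2UTen.cert.subs := by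
      intro w hw
      rw [hmap]
      exact hsub7 (J2UTen.cert.subs.map fun w => w.map fun k => perm10.getD k 8) (by decide +kernel) _
        (List.mem_map_of_mem hw)
    obtain ⟨v', hv0, good, -⟩ := Cert.exists_orbit hinv' hbig' J2UTen.ok (centralizer ({z} : Set G)) hrel hsub
    have := Cert.mem_of_endsAt hinv' hbig' J2UTen.ok hv0 good ten_closer.1 ten_closer.2
    simpa [ha', perm10, ha, lett] using mem_cent.1 this

end CfsgLib.Recog.JTwoU
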