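import Cfsg.Agent.Lib.Recog.JankoTwoUnique.AltFive
import Cfsg.Agent.Lib.Recog.SporBound.J2UA.Valid
import Mathlib

/-!
Owner: helper29. A pair satisfying the presentation of the alternating group of degree five is the
image of a standard pair.
-/

set_option autoImplicit false
set_option linter.all false
set_option maxRecDepth 8000

namespace CfsgLib.Recog.JTwoU

open Subgroup CfsgLib.Recog.SporBound

local notation "A5" => alternatingGroup (Fin 5)

section
variable {M : Type*} [Group M]

/-- Three involutions generating the complement. -/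
def tri (v s : M) : ℕ → M
  | 0 => v
  | 1 => s * v * s⁻¹
  | 2 => s⁻¹ * v * s
  | _ => 1

theorem s_word {v s : M} (hv : v * v = 1) (hs : s ^ 3 = 1) (h5 : (v * s) ^ 5 = 1) :
    s = v * (s * v * s⁻¹) * (s⁻¹ * v * s) * v * (s * v * s⁻¹) := by
  have hs' : s * s = s⁻¹ := eq_inv_of_mul_eq_one_left (by rw [← hs, pow_three, mul_assoc])
  have e : v * s * (v * s) * (v * s) * (v * s) * (v * s) = 1 := by
    rw [← h5]; simp only [pow_succ, pow_zero, one_mul]
  calc s = v * s * (v * s) * (v * s) * (v * s) * (v * s) * s := by rw [e, one_mul]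
    _ = v * s * v * (s * v * s) * v * s * v * (s * s) := by group
    _ = v * s * v * s * v * s * v * s * v * s⁻¹ := by rw [hs']; group
    _ = v * (s * v * s⁻¹) * (s * s) * v * (s * s⁻¹) * s * v * s * v * s⁻¹ := by group
    _ = v * (s * v * s⁻¹) * (s⁻¹ * v * s) * v * (s * v * s⁻¹) := by rw [hs']; group

theorem card_tri {v s : M} (hv : v * v = 1) (hs : s ^ 3 = 1) (h5 : (v * s) ^ 5 = 1) :
    Finite (closure {g | ∃ x ∈ ([0, 1, 2] : List ℕ), g = tri v s x}) ∧
      Nat.card (closure {g | ∃ x ∈ ([0, 1, 2] : List ℕ), g = tri v s x}) ≤ 60 := by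
  have hinv : ∀ x, tri v s x * tri v s x = 1 := by
    intro x
    rcases x with _ | _ | _ | x
    · exact hv
    · show s * v * s⁻¹ * (s * v * s⁻¹) = 1
      rw [show s * v * s⁻¹ * (s * v * s⁻¹) = s * (v * v) * s⁻¹ by group, hv, mul_one, mul_inv_cancel]
    · show s⁻¹ * v * s * (s⁻¹ * v * s) = 1
      rw [show s⁻¹ * v * s * (s⁻¹ * v * s) = s⁻¹ * (v * v) * s by group, hv, mul_one, inv_mul_cancel]
    · exact one_mul 1
  have hsw := s_word hv hs h5
  have sx : ([0, 1, 2, 0, 1].map (tri v s)).prod = s := by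
    conv_rhs => rw [hsw]
    simp only [List.map_cons, List.map_nil, List.prod_cons, List.prod_nil, mul_one, tri, mul_assoc]
  have sx' : ([1, 0, 2, 1, 0].map (tri v s)).prod = s⁻¹ := by
    rw [show ([1, 0, 2, 1, 0] : List ℕ) = [0, 1, 2, 0, 1].reverse from rfl,
      CfsgLib.ThreeTrans.CosetIndex.prod_reverse_eq_inv (tri v s) hinv, sx]
  have hrel : ∀ w ∈ J2UA.cert.rels, (w.map (tri v s)).prod = 1 := by
    intro w hw
    simp only [J2UA.cert, List.mem_cons, List.not_mem_nil, or_false] at hw
    rcases hw with rfl | rfl | rfl | rfl | rfl | rfl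
    · simpa using hinv 0
    · simpa using hinv 1
    · simpa using hinv 2
    · rw [show ([0, 1, 2, 0, 1, 0, 1, 2, 0, 1, 0, 1, 2, 0, 1] : List ℕ) =
        [0, 1, 2, 0, 1] ++ ([0, 1, 2, 0, 1] ++ [0, 1, 2, 0, 1]) from rfl]
      simp only [List.map_append, List.prod_append, sx]
      rw [← pow_three, hs]
    · rw [show ([0, 1, 2, 0, 1, 0, 1, 0, 2, 1, 0, 1] : List ℕ) =
        [0, 1, 2, 0, 1] ++ ([0] ++ ([1, 0, 2, 1, 0] ++ [1])) from rfl]
      simp only [List.map_append, List.prod_append, sx, sx']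
      simp only [List.map_cons, List.map_nil, List.prod_cons, List.prod_nil, mul_one, tri]
      rw [show s * (v * (s⁻¹ * (s * v * s⁻¹))) = s * (v * v) * s⁻¹ by group, hv, mul_one, mul_inv_cancel]
    · rw [show ([0, 1, 2, 0, 1, 1, 1, 0, 2, 1, 0, 2] : List ℕ) =
        [0, 1, 2, 0, 1] ++ ([1] ++ ([1, 0, 2, 1, 0] ++ [2])) from rfl]
      simp only [List.map_append, List.prod_append, sx, sx']
      simp only [List.map_cons, List.map_nil, List.prod_cons, List.prod_nil, mul_one, tri]
      have hs' : s * s = s⁻¹ := eq_inv_of_mul_eq_one_left (by rw [← hs, pow_three, mul_assoc])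
      rw [show s * (s * v * s⁻¹ * (s⁻¹ * (s⁻¹ * v * s))) = s * s * v * (s * s)⁻¹ * (s⁻¹ * v * s) by group,
        hs', inv_inv, show s⁻¹ * v * s * (s⁻¹ * v * s) = s⁻¹ * (v * v) * s by group, hv, mul_one,
        inv_mul_cancel]
  have := Cert.card_le (a := tri v s) (C := J2UA.cert) hinv rfl J2UA.ok ⊥ _ hrel
    (fun w hw => by simp [J2UA.cert] at hw) le_rfl
  rw [Subgroup.card_bot] at this
  exact this

end

/-- The standard pair maps to every pair satisfying the presentation. -/
theorem exists_hom {G : Type*} [Group G] {v σ : G} (hv : v * v = 1) (hs : σ ^ 3 = 1)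
    (h5 : (v * σ) ^ 5 = 1) : ∃ f : A5 →* G, f stdV = v ∧ f stdS = σ := by
  classical
  obtain ⟨sv, ss, s5, svs, sv1, ss1⟩ := std_rels
  set V : G × A5 := (v, stdV)
  set S : G × A5 := (σ, stdS)
  have hV : V * V = 1 := Prod.ext hv sv
  have hS : S ^ 3 = 1 := Prod.ext (by simpa [S] using hs) (by simpa [S] using ss)
  have h5' : (V * S) ^ 5 = 1 := Prod.ext (by simpa [S, V] using h5) (by simpa [S, V] using s5)
  obtain ⟨hfin, hle⟩ := card_tri hV hS h5'
  set D := closure {g | ∃ x ∈ ([0, 1, 2] : List ℕ), g = tri V S x} with hD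
  have hVD : V ∈ D := subset_closure ⟨0, by simp, rfl⟩
  have hSD : S ∈ D := by
    rw [s_word hV hS h5']
    refine mul_mem (mul_mem (mul_mem (mul_mem hVD ?_) ?_) hVD) ?_
    · exact subset_closure ⟨1, by simp, rfl⟩
    · exact subset_closure ⟨2, by simp, rfl⟩
    · exact subset_closure ⟨1, by simp, rfl⟩
  set p2 : D →* A5 := (MonoidHom.snd G A5).comp D.subtype with hp2
  have hV2 : stdV ∈ p2.range := ⟨⟨V, hVD⟩, rfl⟩
  have hS2 : stdS ∈ p2.range := ⟨⟨S, hSD⟩, rfl⟩
  have htop : p2.range = ⊤ := by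
    haveI : Fact (Nat.Prime 2) := ⟨Nat.prime_two⟩
    haveI : Fact (Nat.Prime 3) := ⟨by norm_num⟩
    haveI : Fact (Nat.Prime 5) := ⟨by norm_num⟩
    have h2 : 2 ∣ Nat.card p2.range := by
      have := Subgroup.orderOf_dvd_natCard p2.range hV2
      rwa [orderOf_eq_prime (p := 2) (by rw [sq, sv]) sv1] at this
    have h3 : 3 ∣ Nat.card p2.range := by
      have := Subgroup.orderOf_dvd_natCard p2.range hS2
      rwa [orderOf_eq_prime (p := 3) ss ss1] at this
    have h5 : 5 ∣ Nat.card p2.range := by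
      have := Subgroup.orderOf_dvd_natCard p2.range (mul_mem hV2 hS2)
      rwa [orderOf_eq_prime (p := 5) s5 svs] at this
    have h30 : 30 ∣ Nat.card p2.range :=
      Nat.Coprime.mul_dvd_of_dvd_of_dvd (by norm_num : Nat.Coprime 6 5)
        (Nat.Coprime.mul_dvd_of_dvd_of_dvd (by norm_num : Nat.Coprime 2 3) h2 h3) h5
    have hcA : Nat.card A5 = 60 := by rw [Nat.card_eq_fintype_card]; decide +kernel
    have hmul := p2.range.card_mul_index
    rw [hcA] at hmul
    have hi : p2.range.index ≤ 2 := by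
      have := Nat.le_of_dvd (Nat.card_pos) h30
      by_contra hlt
      push Not at hlt
      have := Nat.mul_le_mul this hlt
      omega
    have hi0 : p2.range.index ≠ 0 := Subgroup.index_ne_zero_of_finite
    rcases (show p2.range.index = 1 ∨ p2.range.index = 2 by omega) with h | h
    · exact Subgroup.index_eq_one.1 h
    · haveI : IsSimpleGroup A5 := alternatingGroup.isSimpleGroup_five
      rcases (Subgroup.normal_of_index_eq_two h).eq_bot_or_eq_top with e | e
      · rw [e] at hV2; exact absurd (mem_bot.1 hV2) sv1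
      · exact e
  have hsurj : Function.Surjective p2 := MonoidHom.range_eq_top.1 htop
  haveI := hfin
  haveI : Fintype D := Fintype.ofFinite D
  have hbij : Function.Bijective p2 := by
    rw [Fintype.bijective_iff_surjective_and_card]
    refine ⟨hsurj, le_antisymm ?_ (Fintype.card_le_of_surjective _ hsurj)⟩
    rw [← Nat.card_eq_fintype_card, ← Nat.card_eq_fintype_card,
      show Nat.card A5 = 60 by rw [Nat.card_eq_fintype_card]; decide +kernel]
    exact hle
  set e := MulEquiv.ofBijective p2 hbij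
  refine ⟨((MonoidHom.fst G A5).comp D.subtype).comp e.symm.toMonoidHom, ?_, ?_⟩
  · show ((e.symm stdV : D) : G × A5).1 = v
    rw [show e.symm stdV = ⟨V, hVD⟩ from e.symm_apply_eq.2 rfl]
  · show ((e.symm stdS : D) : G × A5).1 = σ
    rw [show e.symm stdS = ⟨S, hSD⟩ from e.symm_apply_eq.2 rfl]

theorem closure_std : closure ({stdV, stdS} : Set A5) = ⊤ := by
  classical
  set H := closure ({stdV, stdS} : Set A5)
  have hv : stdV ∈ H := subset_closure (Or.inl rfl)
  have hs : stdS ∈ H := subset_closure (Or.inr rfl)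
  obtain ⟨sv, ss, s5, svs, sv1, ss1⟩ := std_rels
  obtain ⟨f, fv, fs⟩ := exists_hom (G := H) (v := ⟨stdV, hv⟩) (σ := ⟨stdS, hs⟩) (Subtype.ext sv)
    (Subtype.ext (by simpa using ss)) (Subtype.ext (by simpa using s5))
  haveI : IsSimpleGroup A5 := alternatingGroup.isSimpleGroup_five
  rcases (MonoidHom.normal_ker f).eq_bot_or_eq_top with e | e
  · have hinj : Function.Injective f := (MonoidHom.ker_eq_bot_iff f).1 e
    exact eq_top_of_card_eq H (le_antisymm (card_le_card_group H) (Nat.card_le_card_of_injective f hinj))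
  · exact absurd (congrArg Subtype.val (fv.symm.trans (MonoidHom.mem_ker.1 (e ▸ mem_top stdV)))) sv1

end CfsgLib.Recog.JTwoU
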